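import Cfsg.Agent.H811.PSq.Norm
import Cfsg.Agent.H53.HC.RgdLevi
import Cfsg.Agent.H628.PPrimeKer
import Cfsg.Agent.Characters.CCBasic

/-!
# Characters agreeing on the parabolic subgroups are cuspidal (helper811, S4844)

`R : RGD cs h p T n X` a root group datum of the finite group `Y`.

* `norm_HC` : `ψ` a cuspidal irreducible character of `P_J / V_J`. Then `[Ind ψ, Ind ψ]` is at most the number of
  elements of `W` which permute the simple roots of `J`.
* `sum_VJ_eq_zero` : a family `E` of irreducible characters which agree on all the proper parabolic subgroups, with more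
  members than these numbers, consists of cuspidal characters.
-/

set_option autoImplicit false

open scoped ComplexConjugate
open Cfsg

namespace Cfsg.Agent.H811.PSq

open Cfsg.Agent.OddOrderCharacters.Clifford Cfsg.Agent.Characters Cfsg.Agent.H53.HC

section abs

/-- a constituent with `N` in the kernel -/
theorem exists_fixed {D : Type*} [Group D] [Fintype D] (N : Subgroup D) [N.Normal] [Fintype N] {χ : D → ℂ}
    (hχ : IsCharacter D χ) (h : ∑ v : N, χ v ≠ 0) :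
    ∃ ψ : D → ℂ, IsIrrCharacter D ψ ∧ classInner χ ψ ≠ 0 ∧ ∀ v ∈ N, ψ v = ψ 1 := by
  classical
  have : Finite (IrrCharacter D) := Core.finite_irr
  let _ : Fintype (IrrCharacter D) := Fintype.ofFinite _
  obtain ⟨m, hm⟩ := Core.isCharacter_iff.1 hχ
  have h1 : ∑ v : N, χ v = ∑ ψ : IrrCharacter D, (m ψ : ℂ) * ∑ v : N, (ψ : D → ℂ) v := by
    simp_rw [Finset.mul_sum]
    rw [Finset.sum_comm]
    refine Finset.sum_congr rfl fun v _ => ?_
    conv_lhs => rw [hm]
    rw [Finset.sum_apply]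
    refine Finset.sum_congr rfl fun ψ _ => ?_
    rw [Pi.smul_apply, nsmul_eq_mul]
  rw [h1] at h
  obtain ⟨ψ, -, hψ⟩ := Finset.exists_ne_zero_of_sum_ne_zero h
  refine ⟨ψ, ψ.2, ?_, fun v hv => H628.PPrimeKer.apply_eq_of_sum_ne_zero N ψ.2 (right_ne_zero_of_mul hψ) hv⟩
  have e1 : classInner χ ψ = m ψ := by
    rw [hm]; exact Core.classInner_sum_nsmul_irr m ψ
  rw [e1]
  exact left_ne_zero_of_mul hψ

theorem exists_nat_sum {D : Type*} [Group D] [Finite D] (N : Subgroup D) [Fintype N] {χ : D → ℂ}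
    (hχ : IsCharacter D χ) : ∃ a : ℕ, ∑ v : N, χ v = (Nat.card N : ℂ) * a := by
  have h1 : IsCharacter N (χ ∘ N.subtype) := Core.isCharacter_comp _ hχ
  obtain ⟨a, ha⟩ := Core.classInner_isNat h1 (Core.isCharacter_one (G := N))
  refine ⟨a, ?_⟩
  rw [← ha, classInner_apply, mul_inv_cancel_left₀ card_ne_zero']
  refine Finset.sum_congr rfl fun v _ => ?_
  simp

/-- the sum of a constituent over a subgroup -/
theorem sum_eq_zero_of {D : Type*} [Group D] [Fintype D] (N : Subgroup D) [Fintype N] {χ ψ : D → ℂ}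
    (hχ : IsCharacter D χ) (hψ : IsIrrCharacter D ψ) (h : classInner χ ψ ≠ 0) (h0 : ∑ v : N, χ v = 0) :
    ∑ v : N, ψ v = 0 := by
  have h1 := isCharacter_sub_irr hχ hψ h
  obtain ⟨a, ha⟩ := exists_nat_sum N (Core.isIrr_isCharacter hψ)
  obtain ⟨b, hb⟩ := exists_nat_sum N h1
  have h2 : ∑ v : N, χ v = ∑ v : N, ψ v + ∑ v : N, (χ - ψ) v := by
    rw [← Finset.sum_add_distrib]
    exact Finset.sum_congr rfl fun v _ => by simp
  rw [h0, ha, hb, ← mul_add] at h2
  have h3 : (a : ℂ) + b = 0 := by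
    rcases mul_eq_zero.1 h2.symm with h4 | h4
    · exact absurd h4 card_ne_zero'
    · exact h4
  have h4 : a + b = 0 := by exact_mod_cast h3
  have h5 : a = 0 := by omega
  rw [ha, h5, Nat.cast_zero, mul_zero]

/-- the fixed vectors of `V` in an irreducible character: a constituent of the restriction to `P` -/
theorem exists_cut {G : Type*} [Group G] [Finite G] {V P : Subgroup G} (hV : V ≤ P)
    (hn : P ≤ Subgroup.normalizer (V : Set G)) [Fintype V] [Fintype P] {χ : G → ℂ} (hχ : IsIrrCharacter G χ)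
    (h : ∑ v : V, χ v ≠ 0) :
    ∃ ψ : P → ℂ, IsIrrCharacter P ψ ∧ classInner (fun t : P => χ t) ψ ≠ 0 ∧
      (∀ (v : G) (hv : v ∈ V), ψ ⟨v, hV hv⟩ = ψ 1) ∧
      ∀ (K : Subgroup G) (hK : K ≤ P) [Fintype K], ∑ u : K, χ u = 0 → ∑ u : K, ψ ⟨u, hK u.2⟩ = 0 := by
  classical
  have hN : (V.subgroupOf P).Normal := (Subgroup.normal_subgroupOf_iff_le_normalizer hV).2 hn
  have hf : Fintype (V.subgroupOf P) := Fintype.ofFinite _
  have hc : IsCharacter P (fun t : P => χ t) := Core.isCharacter_comp P.subtype (Core.isIrr_isCharacter hχ)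
  have hsum : ∀ (K : Subgroup G) (hK : K ≤ P) [Fintype K] [Fintype (K.subgroupOf P)] (f : P → ℂ),
      ∑ u : K.subgroupOf P, f u = ∑ u : K, f ⟨u, hK u.2⟩ := by
    intro K hK _ _ f
    exact Fintype.sum_equiv (Subgroup.subgroupOfEquivOfLe hK).toEquiv _ _ fun u => rfl
  obtain ⟨ψ, h1, h2, h3⟩ := exists_fixed (V.subgroupOf P) hc (by
    rw [hsum V hV (fun t : P => χ t)]
    exact h)
  refine ⟨ψ, h1, h2, fun v hv => h3 ⟨v, hV hv⟩ (Subgroup.mem_subgroupOf.2 hv), ?_⟩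
  intro K hK _ h0
  have hf' : Fintype (K.subgroupOf P) := Fintype.ofFinite _
  rw [← hsum K hK ψ]
  refine sum_eq_zero_of (K.subgroupOf P) hc h1 h2 ?_
  rw [hsum K hK (fun t : P => χ t)]
  exact h0

end abs

section rgd

open CoxeterSystem Cfsg.Agent.ChevalleyStructure.CoxeterGeom Cfsg.Agent.Tits.Roots Cfsg.Agent.Tits.Core
  Cfsg.Agent.Tits.Exchange Cfsg.Agent.Nodes.Reps Cfsg.Agent.Nodes.BNOf Cfsg.Agent.Nodes.StabComb
  Cfsg.Agent.Nodes.Bruhat Cfsg.Agent.Nodes.OppDec Cfsg.Agent.Nodes.LeviDec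

variable {I W Y : Type*} [Fintype I] [DecidableEq I] [Group W] [Group Y] {M : CoxeterMatrix I}
  {cs : CoxeterSystem M W} {A : I → I → ℤ} {h : IsCartan M A} {p : ℕ} {T : Subgroup Y} {n : I → Y}
  {X : (I → ℤ) → Subgroup Y}

theorem perm_one (J : Set I) : Perm cs h J 1 := by
  refine ⟨fun i hi => ⟨i, hi, ?_⟩, fun i hi => ⟨i, hi, ?_⟩⟩ <;> simp

theorem T_le_PJ (J : Set I) : T ≤ PJ cs h T X J := le_trans T_le_LJ LJ_le_PJ

variable (R : RGD cs h p T n X)

include R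

/-- `ψ` is irreducible on the Levi subgroup -/
theorem irr_LJ [Finite W] [Finite Y] (J : Set I) {ψ : ↥(PJ cs h T X J) → ℂ} (hψ : IsIrrCharacter _ ψ)
    (hV : ∀ (v : Y) (hv : v ∈ VJ cs h X J), ψ ⟨v, VJ_le_PJ hv⟩ = ψ 1) :
    IsIrrCharacter (LJ cs h T X J) (fun l => ψ ⟨l, LJ_le_PJ l.2⟩) := by
  obtain ⟨π, h1, h2⟩ := exists_projL R J
  refine irr_of_comp π (Core.isCharacter_comp (Subgroup.inclusion LJ_le_PJ) (Core.isIrr_isCharacter hψ)) ?_
  have e : (fun l : LJ cs h T X J => ψ ⟨l, LJ_le_PJ l.2⟩) ∘ π = ψ := by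
    funext ⟨x, hx⟩
    obtain ⟨l, hl, v, hv, rfl⟩ := (mem_PJ R).1 hx
    have e1 : (⟨l * v, hx⟩ : PJ cs h T X J) = ⟨l, LJ_le_PJ hl⟩ * ⟨v, VJ_le_PJ hv⟩ := rfl
    have e2 : π ⟨l * v, hx⟩ = ⟨l, hl⟩ := by rw [e1, map_mul, h1 l hl, h2 v hv, mul_one]
    rw [Function.comp_apply, e2]
    change ψ ⟨l, LJ_le_PJ hl⟩ = ψ ⟨l * v, hx⟩
    rw [e1]
    have e3 := Core.isIrr_isClassFunction hψ (⟨v, VJ_le_PJ hv⟩ * ⟨l, LJ_le_PJ hl⟩) ⟨l, LJ_le_PJ hl⟩
    rw [H628.PPrimeKer.apply_mul_eq hψ (hV v hv)] at e3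
    rw [← e3]
    congr 1
    group
  rw [e]
  exact hψ

theorem rp_mem_normalizer_LJ {J : Set I} {w : W} {g : Y} (hg : Rp cs R.nsys w g) (hw : Perm cs h J w) :
    g ∈ Subgroup.normalizer (LJ cs h T X J : Set Y) := by
  have h1 := hg.mem_normalizer
  have h2 := rp_mem_normalizer_MJ R hg hw
  rw [LJ_eq]
  rw [mem_normalizer_iff_cj] at h1 h2 ⊢
  rw [cj_sup, h1, h2]

/-- **The norm of a Harish-Chandra induced cuspidal character.** -/
theorem norm_HC [Finite W] [Fintype Y] (hG : GG cs h T X = ⊤) (J : Set I)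
    {ψ : ↥(PJ cs h T X J) → ℂ} (hψ : IsIrrCharacter _ ψ)
    (hV : ∀ (v : Y) (hv : v ∈ VJ cs h X J), ψ ⟨v, VJ_le_PJ hv⟩ = ψ 1)
    (hc : ∀ i ∈ J, ∀ [Fintype (rad cs h X J i)], ∑ u : rad cs h X J i, ψ ⟨u, rad_le_PJ J i u.2⟩ = 0) :
    ‖classInner (indFun (PJ cs h T X J) ψ) (indFun (PJ cs h T X J) ψ)‖ ≤ Nat.card {w : W // Perm cs h J w} := by
  classical
  choose g hg using fun w : {w : W // Perm cs h J w} => exists_rp cs R.nsys w.1
  have hcl := Core.isIrr_isClassFunction hψ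
  refine norm_le _ hψ g ?_ ?_
  · intro _ x
    by_cases hx : x ∈ PJ cs h T X J
    · right
      have h1 : g ⟨1, perm_one J⟩ ∈ PJ cs h T X J := T_le_PJ J (hg ⟨1, perm_one J⟩).mem_of_one
      exact ⟨⟨1, perm_one J⟩, x * (g ⟨1, perm_one J⟩)⁻¹, mul_mem hx (inv_mem h1), 1, one_mem _, by group⟩
    · obtain ⟨a, ha, b, hb, w, k, hk, rfl, hwJ, h1, h2⟩ := exists_min_rep R hG J hx
      rcases perm_or h1 h2 with hp | ⟨i, hi, hrad⟩
      · right
        have ht := (hg ⟨w, hp⟩).unique hk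
        exact ⟨⟨w, hp⟩, a, ha, ((g ⟨w, hp⟩)⁻¹ * k) * b, mul_mem (T_le_PJ J ht) hb, by group⟩
      · left
        rw [twist_mul _ hcl hcl ha hb]
        have hconj : ∀ l ∈ rad cs h X J i, k⁻¹ * l * k ∈ VJ cs h X J := fun l hl =>
          conj_mem_Sup' R hk (fun x hx => hx.1.1) hrad hl
        have hf : Fintype (rad cs h X J i) := Fintype.ofFinite _
        refine twist_eq_zero_of_sub _ (Core.isIrr_isCharacter hψ) (Core.isIrr_isCharacter hψ) k (rad cs h X J i)
          (rad_le_PJ J i) (fun l hl => VJ_le_PJ (hconj l hl)) ?_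
        have h3 : ∀ l : rad cs h X J i, ψ ⟨l, rad_le_PJ J i l.2⟩ *
            conj (ψ ⟨k⁻¹ * l * k, VJ_le_PJ (hconj l l.2)⟩) = ψ ⟨l, rad_le_PJ J i l.2⟩ * conj (ψ 1) := by
          intro l
          rw [hV _ (hconj l l.2)]
        rw [Finset.sum_congr rfl fun l _ => h3 l, ← Finset.sum_mul, hc i hi, zero_mul]
  · intro j
    have hN := rp_mem_normalizer_LJ R (hg j) j.2
    have hN' := inv_mem hN
    have hL' : ∀ l ∈ LJ cs h T X J, (g j)⁻¹ * l * g j ∈ LJ cs h T X J := by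
      intro l hl
      have := (Subgroup.mem_normalizer_iff.1 hN' l).1 hl
      rwa [inv_inv] at this
    refine ⟨LJ cs h T X J, LJ_le_PJ, fun l hl => LJ_le_PJ (hL' l hl), irr_LJ R J hψ hV, ?_⟩
    have h1 := Core.isIrr_comp (conjME (LJ cs h T X J) hN').toMonoidHom (MulEquiv.surjective _) (irr_LJ R J hψ hV)
    convert h1 using 1
    funext l
    change ψ _ = ψ _
    congr 1
    apply Subtype.ext
    change (g j)⁻¹ * (l : Y) * g j = (g j)⁻¹ * l * (g j)⁻¹⁻¹
    rw [inv_inv]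

omit R in
theorem notJ_diff (J : Set I) (i : I) :
    NotJ cs h (J \ {i}) = NotJ cs h J ∪ PosRad cs h J i := by
  ext x
  constructor
  · rintro ⟨h1, h2, k, hk, hk0⟩
    by_cases hx : ∃ k, k ∉ J ∧ 0 < x k
    · exact Or.inl ⟨h1, h2, hx⟩
    · push Not at hx
      right
      have hkJ : k ∈ J := by
        by_contra hkJ
        have := hx k hkJ
        omega
      have hki : k = i := by
        by_contra hne
        exact hk ⟨hkJ, hne⟩
      exact ⟨⟨h1, h2, fun k hk => le_antisymm (hx k hk) (h2 k)⟩, hki ▸ hk0⟩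
  · rintro (⟨h1, h2, k, hk, hk0⟩ | ⟨⟨h1, h2, -⟩, h4⟩)
    · exact ⟨h1, h2, k, fun hk' => hk hk'.1, hk0⟩
    · exact ⟨h1, h2, i, fun hk' => hk'.2 rfl, h4⟩

omit R in
theorem VJ_diff (J : Set I) (i : I) :
    VJ cs h X (J \ {i}) = VJ cs h X J ⊔ rad cs h X J i := by
  unfold VJ rad
  rw [notJ_diff]
  apply le_antisymm
  · refine RGD.Sup_le fun z hz => ?_
    rcases hz with hz | hz
    · exact le_trans (RGD.le_Sup hz) le_sup_left
    · exact le_trans (RGD.le_Sup hz) le_sup_right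
  · exact sup_le (RGD.Sup_mono Set.subset_union_left) (RGD.Sup_mono Set.subset_union_right)

/-- the sum over `V_{J - i}` -/
theorem sum_diff [Finite W] [Finite Y] {J : Set I} {i : I} {ψ : ↥(PJ cs h T X J) → ℂ}
    (hψ : IsIrrCharacter _ ψ) (hV : ∀ (v : Y) (hv : v ∈ VJ cs h X J), ψ ⟨v, VJ_le_PJ hv⟩ = ψ 1)
    (hK : VJ cs h X (J \ {i}) ≤ PJ cs h T X J) [Fintype (VJ cs h X (J \ {i}))] [Fintype (rad cs h X J i)] :
    ∑ u : VJ cs h X (J \ {i}), ψ ⟨u, hK u.2⟩ =
      (Nat.card (VJ cs h X J) : ℂ) * ∑ u : rad cs h X J i, ψ ⟨u, rad_le_PJ J i u.2⟩ := by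
  classical
  have hf : Fintype (VJ cs h X J) := Fintype.ofFinite _
  have hmem : ∀ z : rad cs h X J i × VJ cs h X J, (z.2 : Y) * z.1 ∈ VJ cs h X (J \ {i}) := by
    intro z
    rw [VJ_diff]
    exact mul_mem (Subgroup.mem_sup_left z.2.2) (Subgroup.mem_sup_right z.1.2)
  have hbij : Function.Bijective (fun z : rad cs h X J i × VJ cs h X J =>
      (⟨(z.2 : Y) * z.1, hmem z⟩ : VJ cs h X (J \ {i}))) := by
    constructor
    · rintro ⟨a, b⟩ ⟨c, d⟩ e
      have e1 : (b : Y) * a = d * c := congrArg Subtype.val e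
      have e2 : (a : Y) * (c : Y)⁻¹ = (b : Y)⁻¹ * d := by
        rw [eq_inv_mul_iff_mul_eq, ← mul_assoc, e1]
        group
      have e3 : (a : Y) * (c : Y)⁻¹ = 1 := eq_one_of_mem_LJ_of_mem_VJ R (J := J)
        (mul_mem (rad_le_LJ J i a.2) (inv_mem (rad_le_LJ J i c.2)))
        (by rw [e2]; exact mul_mem (inv_mem b.2) d.2)
      have e4 : (a : Y) = c := mul_inv_eq_one.1 e3
      rw [e4] at e1
      exact Prod.ext (Subtype.ext e4) (Subtype.ext (mul_right_cancel e1))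
    · rintro ⟨x, hx⟩
      have hn : rad cs h X J i ≤ Subgroup.normalizer (VJ cs h X J : Set Y) :=
        le_trans (rad_le_LJ (T := T) J i) (LJ_le_normalizer_VJ R J)
      have hx' : x ∈ VJ cs h X J ⊔ rad cs h X J i := by rw [← VJ_diff]; exact hx
      have hx2 : x ∈ ((rad cs h X J i ⊔ VJ cs h X J : Subgroup Y) : Set Y) := by
        rw [sup_comm]
        exact hx'
      rw [Subgroup.coe_mul_of_left_le_normalizer_right _ _ hn] at hx2
      obtain ⟨r, hr, v, hv, rfl⟩ := hx2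
      have hv' : r * v * r⁻¹ ∈ VJ cs h X J := (Subgroup.mem_normalizer_iff.1 (hn hr) v).1 hv
      exact ⟨(⟨r, hr⟩, ⟨r * v * r⁻¹, hv'⟩), Subtype.ext (by simp)⟩
  rw [← hbij.sum_comp (fun u : VJ cs h X (J \ {i}) => ψ ⟨u, hK u.2⟩), Fintype.sum_prod_type, Finset.mul_sum]
  refine Finset.sum_congr rfl fun r _ => ?_
  rw [← nsmul_eq_mul, Nat.card_eq_fintype_card, ← Finset.card_univ, ← Finset.sum_const]
  refine Finset.sum_congr rfl fun v _ => ?_
  exact H628.PPrimeKer.apply_mul_eq hψ (hV v v.2) ⟨r, rad_le_PJ J i r.2⟩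

/-- **Characters which agree on the parabolic subgroups are cuspidal.** -/
theorem sum_VJ_eq_zero [Finite W] [Fintype Y] (hG : GG cs h T X = ⊤) (hTc : ∀ a ∈ T, ∀ b ∈ T, a * b = b * a)
    (E : Finset (IrrCharacter Y))
    (hE : ∀ J : Set I, J ≠ Set.univ → ∀ χ ∈ E, ∀ χ' ∈ E, ∀ x ∈ PJ cs h T X J, (χ : Y → ℂ) x = (χ' : Y → ℂ) x)
    (hcard : ∀ J : Set I, J ≠ Set.univ → Nat.card {w : W // Perm cs h J w} < E.card ∨
      (J = ∅ ∧ Nat.card W = E.card ∧ ¬ E.card ∣ (PJ cs h T X ∅).index)) :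
    ∀ J : Set I, J ≠ Set.univ → ∀ χ ∈ E, ∀ [Fintype (VJ cs h X J)], ∑ v : VJ cs h X J, (χ : Y → ℂ) v = 0 := by
  classical
  intro J
  induction hk : J.ncard using Nat.strong_induction_on generalizing J with
  | _ k ih =>
  intro hJ χ hχ _
  by_contra hne
  have hfP : Fintype (PJ cs h T X J) := Fintype.ofFinite _
  obtain ⟨ψ, hψ, hin, hV, hsub⟩ := exists_cut (VJ_le_PJ (T := T)) (PJ_le_normalizer_VJ R J) χ.2 hne
  have hc : ∀ i ∈ J, ∀ [Fintype (rad cs h X J i)], ∑ u : rad cs h X J i, ψ ⟨u, rad_le_PJ J i u.2⟩ = 0 := by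
    intro i hi _
    have hJi : J \ {i} ≠ Set.univ := fun h1 => by
      have h2 : i ∈ J \ {i} := by rw [h1]; trivial
      exact h2.2 rfl
    have hlt : (J \ {i}).ncard < k := by
      rw [← hk]
      exact Set.ncard_sdiff_singleton_lt_of_mem hi (Set.toFinite _)
    have hf' : Fintype (VJ cs h X (J \ {i})) := Fintype.ofFinite _
    have h1 := ih _ hlt (J \ {i}) rfl hJi χ hχ
    have hK : VJ cs h X (J \ {i}) ≤ PJ cs h T X J := by
      rw [VJ_diff]
      exact sup_le VJ_le_PJ (rad_le_PJ J i)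
    have h2 := hsub _ hK h1
    rw [sum_diff R hψ hV hK] at h2
    exact (mul_eq_zero.1 h2).resolve_left (by exact_mod_cast Nat.card_pos.ne')
  have hnorm := norm_HC R hG J hψ hV hc
  have hchar : IsCharacter Y (indFun (PJ cs h T X J) ψ) := Cfsg.Agent.S0148.result _ _ (Core.isIrr_isCharacter hψ)
  have hmem : ∀ χ' ∈ E, classInner (indFun (PJ cs h T X J) ψ) (χ' : Y → ℂ) ≠ 0 := by
    intro χ' hχ'
    rw [classInner_indFun (PJ cs h T X J) _ _ (Core.isIrr_isClassFunction χ'.2)]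
    have e : (fun t : PJ cs h T X J => (χ' : Y → ℂ) t) = fun t : PJ cs h T X J => (χ : Y → ℂ) t :=
      funext fun t => hE J hJ χ' hχ' χ hχ t t.2
    rw [← Core.classInner_conj_symm]
    intro h0
    apply hin
    rw [map_eq_zero] at h0
    rw [← e]
    exact h0
  obtain ⟨h1, h2⟩ := card_le hchar hnorm E hmem
  rcases hcard J hJ with h3 | ⟨rfl, h3, h4⟩
  · omega
  · have h5 : Nat.card {w : W // Perm cs h ∅ w} ≤ Nat.card W := Nat.card_le_card_of_injective _ Subtype.val_injective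
    have h6 : E.card = Nat.card {w : W // Perm cs h ∅ w} := by omega
    have h7 := congrFun (h2 h6) 1
    rw [Finset.sum_apply, indFun_one] at h7
    have h8 : ∑ χ' ∈ E, (χ' : Y → ℂ) 1 = (E.card : ℂ) * (χ : Y → ℂ) 1 := by
      rw [Finset.sum_congr rfl fun χ' hχ' => hE ∅ hJ χ' hχ' χ hχ 1 (one_mem _), Finset.sum_const, nsmul_eq_mul]
    obtain ⟨d, -, hd⟩ := Core.isIrr_apply_one χ.2
    -- `ψ` is linear
    have h9 : ψ 1 = 1 := by
      have h10 := irr_LJ R ∅ hψ hV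
      have h11 : LJ cs h T X ∅ = T := by
        unfold LJ
        have : RootsJ cs h (∅ : Set I) = ∅ := by
          ext x
          simp only [Set.mem_empty_iff_false, iff_false]
          rintro ⟨h12, h13⟩
          exact h12.ne_zero (funext fun k => h13 k (by simp))
        rw [this]
        refine le_antisymm (sup_le le_rfl (RGD.Sup_le fun z hz => ?_)) le_sup_left
        simp at hz
      have h12 : ∀ a b : LJ cs h T X (∅ : Set I), a * b = b * a := by
        intro a b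
        exact Subtype.ext (hTc a (h11.le a.2) b (h11.le b.2))
      have h13 := Cfsg.Agent.Characters.CCBasic.irr_apply_one_of_comm h12 h10
      exact h13
    rw [h8, h9, mul_one, hd] at h7
    exact h4 ⟨d, by exact_mod_cast h7⟩

end rgd

end Cfsg.Agent.H811.PSq
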