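import Cfsg.Agent.H504.ZerosCyc
import Cfsg.Agent.H678.CCData

/-!
# The exceptional characters of a cyclic torus (helper811, S4844)

* `exists_family` : a cyclic subgroup of order `a = s e + 1`, equal to the centralizer of each of its nonidentity
  elements, of automizer `e`: `s` irreducible characters which agree on all the subgroups of order prime to `a`.
-/

set_option autoImplicit false

open scoped ComplexConjugate
open Cfsg

namespace Cfsg.Agent.H811.PSq

open Cfsg.Agent.H504.Zeros Cfsg.Agent.H504.ZeroTI Cfsg.Agent.H129.CycT Cfsg.Agent.Characters.CCBasic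
  Cfsg.Agent.Characters.CCEstimates Cfsg.Agent.Characters.CCCounting

universe u

theorem exists_family {G : Type u} [Group G] [Fintype G] {a e s : ℕ} (hx : CycExact G a) (hea : e < a) (h1 : 1 < a)
    {N : ℤ} (hN : (Nat.card G : ℤ) = a * N) (hmod : ((N : ℤ) : ZMod a) = e) (hs : s * e + 1 = a) (h2 : 2 ≤ s) :
    ∃ E : Finset (IrrCharacter G), E.card = s ∧ ∀ χ ∈ E, ∀ χ' ∈ E, ∀ P : Subgroup G, (Nat.card P).Coprime a →
      ∀ x ∈ P, (χ : G → ℂ) x = (χ' : G → ℂ) x := by
  classical
  obtain ⟨T, hT, hc, hz⟩ := hx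
  have hA := cc_of_cyclic hT hz
  have he := eIdx_of_int hA hc hea h1 hN hmod
  have hCC : IsCC T := by
    refine ⟨?_, hz⟩
    rintro rfl
    rw [Subgroup.card_bot] at hc
    omega
  have hlen : len T = e := by
    have h3 := len_mul_card T
    have h4 := eIdx_mul T
    have h5 : len T * Nat.card T = eIdx T * Nat.card T := by rw [h3, mul_comm (eIdx T), h4]
    rw [← he]
    exact Nat.eq_of_mul_eq_mul_right Nat.card_pos h5
  have : Finite (IrrCharacter G) := Cfsg.Agent.Characters.Core.finite_irr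
  have : Fintype (IrrCharacter G) := Fintype.ofFinite _
  obtain ⟨D⟩ := Cfsg.Agent.H678.CCExact.nonempty_ccData hCC hlen (by rw [hc]; exact hs) h2
  refine ⟨D.R, D.hcard, fun χ hχ χ' hχ' P hP x hx => D.agree χ hχ χ' hχ' x ?_⟩
  rintro ⟨b, hb, hb1, hcj⟩
  have h4 : orderOf x = orderOf b := by
    obtain ⟨c, rfl⟩ := isConj_iff.1 hcj
    exact ((MulAut.conj c).orderOf_eq b)
  have h5 : orderOf b ∣ a := by
    have := orderOf_dvd_natCard (⟨b, hb⟩ : T)
    rwa [← Subgroup.orderOf_coe, hc] at this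
  have h6 : orderOf x ∣ Nat.card P := by
    have := orderOf_dvd_natCard (⟨x, hx⟩ : P)
    rwa [← Subgroup.orderOf_coe] at this
  rw [h4] at h6
  have h7 := Nat.dvd_gcd h6 h5
  rw [hP.gcd_eq_one, Nat.dvd_one, orderOf_eq_one_iff] at h7
  exact hb1 h7

end Cfsg.Agent.H811.PSq
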