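import Cfsg.Agent.H811.PSq.CuspRgd
import Cfsg.Agent.Nodes.CardSup
import Cfsg.Agent.H710.Cuspidal

/-!
# Zeros of cuspidal characters on the torus (helper811, S4844)

* `fpf_fut` : an element of `T` without fixed points on the root groups `X z`, `z ∈ S`, has no fixed points on `Sup X S`;
* `char_zero` : rank two type argument: if the root groups on which `x ∈ T` has fixed points are at most `X z`, `X (-z)`
  then a cuspidal character vanishes at `x`;
* `dvd_degree` : a subgroup `E ≤ T` all of whose elements `≠ 1` are of this kind: `|E|` divides the degree.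
-/

set_option autoImplicit false

open scoped ComplexConjugate
open Cfsg

namespace Cfsg.Agent.H811.PSq

open CoxeterSystem Cfsg.Agent.ChevalleyStructure.CoxeterGeom Cfsg.Agent.Tits.Roots Cfsg.Agent.Tits.Core
  Cfsg.Agent.Tits.Exchange Cfsg.Agent.Nodes.Reps Cfsg.Agent.Nodes.BNOf Cfsg.Agent.Nodes.StabComb
  Cfsg.Agent.Nodes.Bruhat Cfsg.Agent.Nodes.OppDec Cfsg.Agent.Nodes.LeviDec Cfsg.Agent.Nodes.Unique
  Cfsg.Agent.Tits.RootComb Cfsg.Agent.Nodes.Comb Cfsg.Agent.Nodes.BNOf.RGD

variable {I W Y : Type*} [Fintype I] [DecidableEq I] [Group W] [Group Y] {M : CoxeterMatrix I}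
  {cs : CoxeterSystem M W} {A : I → I → ℤ} {h : IsCartan M A} {p : ℕ} {T : Subgroup Y} {n : I → Y}
  {X : (I → ℤ) → Subgroup Y}

/-- `x` has fixed points on the root group `X z` -/
def NF (X : (I → ℤ) → Subgroup Y) (x : Y) (z : I → ℤ) : Prop := ∃ u ∈ X z, u ≠ 1 ∧ x * u = u * x

theorem closedNotJ (J : Set I) : Closed cs h (NotJ cs h J) := by
  intro x hx y hy z hz
  obtain ⟨hxr, hx0, k, hk, hk0⟩ := hx
  have h1 : 0 ≤ z := RGD.nonneg_of_btwn hx0 hy.2.1 hz
  refine ⟨hz.1, h1, k, hk, ?_⟩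
  exact btwn_apply_pos hz hk0 (hy.2.1 k)

variable (R : RGD cs h p T n X)

include R

theorem fpf_fut [Finite W] {x : Y} (hx : x ∈ T) (w : W) {S : Set (I → ℤ)} (hS : S ⊆ Fut cs h w)
    (hc : Closed cs h S) (hfree : ∀ z ∈ S, ¬ NF X x z) : ∀ u ∈ Sup X S, x * u = u * x → u = 1 := by
  classical
  induction hn : (Fut cs h w).ncard generalizing w S with
  | zero =>
    have h1 := (Set.ncard_eq_zero (finite_fut w)).1 hn
    rw [h1, Set.subset_empty_iff] at hS
    subst hS
    intro u hu _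
    have h2 : Sup X (∅ : Set (I → ℤ)) = ⊥ := by
      rw [eq_bot_iff]
      refine Sup_le fun z hz => ?_
      simp at hz
    rwa [h2, Subgroup.mem_bot] at hu
  | succ k ih =>
    have hne : (Fut cs h w).Nonempty := by
      rw [Set.nonempty_iff_ne_empty]
      intro h1
      rw [h1, Set.ncard_empty] at hn
      omega
    obtain ⟨y, hy⟩ := hne
    obtain ⟨i, hi⟩ := exists_simple hy
    set z := rep cs h w (sr i) with hzdef
    have hcard : (Fut cs h (w * cs.simple i)).ncard = k := by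
      rw [fut_mul hi, Set.ncard_sdiff_singleton_of_mem (mem_fut hi), hn]
      rfl
    have hsub : S \ {z} ⊆ Fut cs h (w * cs.simple i) := by
      rw [fut_mul hi]
      exact Set.sdiff_subset_sdiff_left hS
    have hcl := closed_diff hi hS hc
    by_cases hz : z ∈ S
    · have hpos : S ⊆ Pos cs h := hS.trans (fut_subset_pos w)
      intro u hu hxu
      obtain ⟨a, ha, b, hb, rfl⟩ := (mem_peel R hpos hc hz).1 hu
      have ha' : x * a * x⁻¹ ∈ X z := by
        have h1 := R.tor z (hpos hz).1 x hx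
        rw [← h1]
        exact conj_mem_cj.2 ha
      have hb' : x * b * x⁻¹ ∈ Sup X (S \ {z}) := by
        have h1 := R.T_le_normalizer (S := S \ {z}) (fun y hy => (hpos hy.1).1) hx
        exact (Subgroup.mem_normalizer_iff.1 h1 b).1 hb
      have e1 : (x * a * x⁻¹) * (x * b * x⁻¹) = a * b := by
        calc (x * a * x⁻¹) * (x * b * x⁻¹) = x * (a * b) * x⁻¹ := by group
          _ = a * b := by rw [hxu]; group
      have e2 : a⁻¹ * (x * a * x⁻¹) = b * (x * b * x⁻¹)⁻¹ := by
        rw [inv_mul_eq_iff_eq_mul, ← mul_assoc, ← e1]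
        group
      have h3 : a⁻¹ * (x * a * x⁻¹) ∈ X z ⊓ Sup X (Fut cs h (w * cs.simple i)) :=
        Subgroup.mem_inf.2 ⟨mul_mem (inv_mem ha) ha', by
          rw [e2]
          exact Sup_mono hsub (mul_mem hb (inv_mem hb'))⟩
      rw [tail_inf R, Subgroup.mem_bot] at h3
      have h4 : x * a = a * x := by
        have h5 : x * a * x⁻¹ = a := (inv_mul_eq_one.1 h3).symm
        calc x * a = (x * a * x⁻¹) * x := by group
          _ = a * x := by rw [h5]
      have h6 : a = 1 := by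
        by_contra ha1
        exact hfree z hz ⟨a, ha, ha1, h4⟩
      subst h6
      rw [one_mul] at hxu ⊢
      exact ih (w * cs.simple i) hsub hcl (fun z' hz' => hfree z' hz'.1) hcard b hb hxu
    · have hs : S \ {z} = S := Set.sdiff_singleton_eq_self hz
      rw [hs] at hsub
      exact ih (w * cs.simple i) hsub hc hfree hcard

theorem fpf_VJ [Finite W] {x : Y} (hx : x ∈ T) (J : Set I) (hfree : ∀ z ∈ NotJ cs h J, ¬ NF X x z) :
    ∀ u ∈ VJ cs h X J, x * u = u * x → u = 1 := by
  refine fpf_fut R hx 1 (S := NotJ cs h J) ?_ (closedNotJ J) hfree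
  rw [fut_one]
  exact fun z hz => ⟨hz.1, hz.2.1⟩

/-- a character without fixed vectors of `V_J` -/
theorem zero_of_free [Finite W] [Finite Y] {χ : Y → ℂ} (hχ : IsIrrCharacter Y χ) (J : Set I)
    (hcusp : ∀ [Fintype (VJ cs h X J)], ∑ v : VJ cs h X J, χ v = 0) {x : Y} (hx : x ∈ T)
    (hfree : ∀ z ∈ NotJ cs h J, ¬ NF X x z) : χ x = 0 := by
  classical
  have := Fintype.ofFinite (VJ cs h X J)
  exact H720.PV.zero_of_regular (VJ cs h X J) hχ hcusp
    (Subgroup.mem_normalizer_iff.1 (PJ_le_normalizer_VJ R J (T_le_PJ J hx))) (fpf_VJ R hx J hfree)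

theorem nf_conj [Finite W] {w : W} {g : Y} (hg : Rp cs R.nsys w g) {x : Y} {z : I → ℤ} (hz : IsRoot cs h z)
    (hf : NF X (g⁻¹ * x * g) z) : NF X x (rep cs h w z) := by
  obtain ⟨u, hu, hu1, hxu⟩ := hf
  refine ⟨g * u * g⁻¹, R.conj_mem hg hz hu, ?_, ?_⟩
  · intro h1
    apply hu1
    have h2 : u = g⁻¹ * (g * u * g⁻¹) * g := by group
    rw [h2, h1]
    group
  · calc x * (g * u * g⁻¹) = g * ((g⁻¹ * x * g) * u) * g⁻¹ := by group
      _ = g * (u * (g⁻¹ * x * g)) * g⁻¹ := by rw [hxu]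
      _ = _ := by group

/-- **A cuspidal character vanishes** at the elements of `T` with fixed points on at most one pair of opposite root
groups. -/
theorem char_zero [Finite W] [Finite Y] [Nonempty I] {χ : Y → ℂ} (hχ : IsIrrCharacter Y χ)
    (hcusp : ∀ i : I, ∀ [Fintype (VJ cs h X {i})], ∑ v : VJ cs h X {i}, χ v = 0) {x : Y} (hx : x ∈ T)
    (hone : ∀ z z', IsRoot cs h z → IsRoot cs h z' → NF X x z → NF X x z' → z = z' ∨ z = -z') : χ x = 0 := by
  classical
  by_cases hex : ∃ z, IsRoot cs h z ∧ NF X x z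
  · obtain ⟨z, ⟨w, i, rfl⟩, hz⟩ := hex
    obtain ⟨g, hg⟩ := exists_rp cs R.nsys w
    have hgT : g⁻¹ * x * g ∈ T := by
      have := (Subgroup.mem_normalizer_iff.1 (inv_mem hg.mem_normalizer) x).1 hx
      rwa [inv_inv] at this
    have h1 : χ (g⁻¹ * x * g) = χ x := by
      have := Cfsg.Agent.Characters.Core.isIrr_isClassFunction hχ x g⁻¹
      rwa [inv_inv] at this
    rw [← h1]
    refine zero_of_free R hχ {i} (hcusp i) hgT fun z hzJ hnf => ?_
    have h2 := nf_conj R hg hzJ.1 hnf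
    obtain ⟨k, hk, hk0⟩ := hzJ.2.2
    have hki : k ≠ i := fun h3 => hk (by rw [h3]; rfl)
    have hne : ∀ z' : I → ℤ, (z' = sr i ∨ z' = -sr i) → ¬ 0 < z' k := by
      intro z' hz'
      rcases hz' with rfl | rfl
      · rw [sr_ne (i := i) (j := k) hki]
        exact lt_irrefl _
      · rw [Pi.neg_apply, sr_ne (i := i) (j := k) hki]
        simp
    refine hne z ?_ hk0
    rcases hone _ _ (hzJ.1.act w) ((isRoot_sr cs h i).act w) h2 hz with h3 | h3
    · left
      have := congrArg (rep cs h w⁻¹) h3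
      rwa [rep_inv_apply, rep_inv_apply] at this
    · right
      have := congrArg (rep cs h w⁻¹) h3
      rwa [rep_inv_apply, map_neg, rep_inv_apply] at this
  · push Not at hex
    obtain ⟨i⟩ := (inferInstance : Nonempty I)
    exact zero_of_free R hχ {i} (hcusp i) hx fun z hz => hex z hz.1

/-- **The order of the subgroup `E` of `T` divides the degrees of the cuspidal characters.** -/
theorem dvd_degree [Finite W] [Finite Y] [Nonempty I] {χ : Y → ℂ} (hχ : IsIrrCharacter Y χ)
    (hcusp : ∀ i : I, ∀ [Fintype (VJ cs h X {i})], ∑ v : VJ cs h X {i}, χ v = 0) {E : Subgroup Y} (hE : E ≤ T)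
    (hone : ∀ x ∈ E, x ≠ 1 → ∀ z z', IsRoot cs h z → IsRoot cs h z' → NF X x z → NF X x z' → z = z' ∨ z = -z') :
    Nat.card E ∣ charDegree χ := by
  classical
  have := Fintype.ofFinite Y
  have hf : Fintype E := Fintype.ofFinite E
  obtain ⟨m, hm⟩ := Cfsg.Agent.H710.Cuspidal.exists_mult E hχ
  rw [Finset.sum_eq_single (1 : E) (fun u _ hu => char_zero R hχ hcusp (hE u.2) (hone u u.2 fun h1 =>
    hu (Subtype.ext h1))) (fun h1 => absurd (Finset.mem_univ _) h1)] at hm
  refine ⟨m, ?_⟩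
  rw [OneMemClass.coe_one, Cfsg.Agent.Blocks.Basic.irr_one_eq_charDegree hχ] at hm
  exact_mod_cast hm

end Cfsg.Agent.H811.PSq
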