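import Cfsg.Agent.H811.PSq.RankTwo
import Cfsg.Agent.H811.PSq.Exc
import Cfsg.Agent.H811.PSq.GTwoA
import Cfsg.Agent.H115.HC.TwoGTwo
import Cfsg.Agent.H504.ZerosExc
import Cfsg.Agent.S1092

/-!
# `G₂(q)`: a degree divisible by `p ^ 2` for `5 ≤ p ∣ q - 1` (helper811, S4844)
-/

set_option autoImplicit false

open Cfsg Cfsg.Lie

namespace Cfsg.Agent.H811.PSq.GTwo

open CoxeterSystem Cfsg.Agent.ChevalleyStructure.CoxeterGeom Cfsg.Agent.Tits.Roots Cfsg.Agent.Tits.Core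
  Cfsg.Agent.Nodes.Reps Cfsg.Agent.Nodes.BNOf Cfsg.Agent.Nodes.Bruhat Cfsg.Agent.Nodes.LeviDec
open Cfsg.Lie Cfsg.Agent.ChevalleyStructure Cfsg.Agent.ChevalleyStructure.Elts
  Cfsg.Agent.ChevalleyStructure.RootVec Cfsg.Agent.ChevalleyStructure.RootVecTab
  Cfsg.Agent.ChevalleyStructure.NPerm Cfsg.Agent.ChevalleyStructure.CoxeterGeomTypes
open Cfsg.Agent.Nodes.RGDChev Cfsg.Agent.H35.ExcIdx Cfsg.Agent.H35.PoinNum Cfsg.Agent.H115.HC.GTwo

/-- the `2 × 2` minors of the root values -/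
theorem det_tab : ∀ s < 12, ∀ t < 12,
    (chevG2.cartan 0 s * chevG2.cartan 1 t - chevG2.cartan 0 t * chevG2.cartan 1 s = 0 →
      (∀ i : Fin 2, vec chevG2 2 s i = vec chevG2 2 t i) ∨ ∀ i : Fin 2, vec chevG2 2 s i = -vec chevG2 2 t i) ∧
    (chevG2.cartan 0 s * chevG2.cartan 1 t - chevG2.cartan 0 t * chevG2.cartan 1 s ≠ 0 →
      chevG2.cartan 0 s * chevG2.cartan 1 t - chevG2.cartan 0 t * chevG2.cartan 1 s ∣ 6) := by
  decide +kernel

theorem nroots_eq : chevG2.nroots = 12 := by decide +kernel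

theorem ctab2 : chevG2.cartan 0 7 = 2 ∧ chevG2.cartan 1 7 = -1 ∧ chevG2.cartan 0 6 = -3 ∧ chevG2.cartan 1 6 = 2 := by
  decide +kernel

variable {K : Type} [Field K]

/-- `h_0(a) h_1(b)` -/
noncomputable def hhh (K : Type) [Field K] : Kˣ × Kˣ →* ↥(chevG2.group K) where
  toFun x := hh K 0 (x.1 : K) * hh K 1 (x.2 : K)
  map_one' := by
    change hh K 0 ((1 : Kˣ) : K) * hh K 1 ((1 : Kˣ) : K) = 1
    rw [Units.val_one, hh_one, hh_one, one_mul]
  map_mul' x y := by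
    change hh K 0 ((x.1 * y.1 : Kˣ) : K) * hh K 1 ((x.2 * y.2 : Kˣ) : K) = _
    rw [Units.val_mul, Units.val_mul, ← hh_mul 0 x.1.ne_zero y.1.ne_zero, ← hh_mul 1 x.2.ne_zero y.2.ne_zero]
    have h1 := TT_comm _ (hh_mem (K := K) 0 y.1.ne_zero) _ (hh_mem (K := K) 1 x.2.ne_zero)
    calc hh K 0 (x.1 : K) * hh K 0 (y.1 : K) * (hh K 1 (x.2 : K) * hh K 1 (y.2 : K)) =
        hh K 0 (x.1 : K) * (hh K 0 (y.1 : K) * hh K 1 (x.2 : K)) * hh K 1 (y.2 : K) := by group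
      _ = hh K 0 (x.1 : K) * (hh K 1 (x.2 : K) * hh K 0 (y.1 : K)) * hh K 1 (y.2 : K) := by rw [h1]
      _ = _ := by group

theorem hhh_apply (x : Kˣ × Kˣ) : hhh K x = hh K 0 (x.1 : K) * hh K 1 (x.2 : K) := rfl

theorem hhh_mem (x : Kˣ × Kˣ) : hhh K x ∈ TT chevG2 K := mul_mem (hh_mem 0 x.1.ne_zero) (hh_mem 1 x.2.ne_zero)

/-- fixed points on a root group -/
theorem of_nf {x : Kˣ × Kˣ} {s : ℕ} (hs : s < chevG2.nroots) (hx : NF (XX chevG2 2 K) (hhh K x) (vec chevG2 2 s)) :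
    x.1 ^ (chevG2.cartan 0 s) * x.2 ^ (chevG2.cartan 1 s) = 1 := by
  obtain ⟨u, hu, hu1, hxu⟩ := hx
  obtain ⟨t, rfl⟩ := (mem_XX hs rfl).1 hu
  have ht : t ≠ 0 := by
    rintro rfl
    exact hu1 (Subtype.ext (xG_zero hpG2.inList s))
  rw [hhh_apply, mul_assoc, hh_xG 1 hs x.2.ne_zero, ← mul_assoc, hh_xG 0 hs x.1.ne_zero, mul_assoc,
    mul_left_inj] at hxu
  have h1 := xG_injective hpG2.inList hs (congrArg Subtype.val hxu)
  rw [← mul_assoc] at h1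
  have h2 : (x.1 : K) ^ (chevG2.cartan 0 s) * (x.2 : K) ^ (chevG2.cartan 1 s) = 1 :=
    mul_right_cancel₀ ht (by rw [one_mul]; exact h1)
  apply Units.ext
  rw [Units.val_mul, Units.val_zpow_eq_zpow_val, Units.val_zpow_eq_zpow_val, Units.val_one]
  exact h2

theorem eq_one_of_pow {G : Type*} [Group G] {a : G} {ℓ : ℕ} (hℓ : ℓ.Prime) (h5 : 5 ≤ ℓ) (ha : a ^ ℓ = 1) {D : ℤ}
    (hD : D ∣ 6) (h : a ^ D = 1) : a = 1 := by
  have h1 : orderOf a ∣ ℓ := orderOf_dvd_of_pow_eq_one ha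
  have h2 : (orderOf a : ℤ) ∣ D := orderOf_dvd_iff_zpow_eq_one.2 h
  have h3 : orderOf a ∣ 6 := by exact_mod_cast h2.trans hD
  rcases (Nat.dvd_prime hℓ).1 h1 with h4 | h4
  · exact orderOf_eq_one_iff.1 h4
  · rw [h4] at h3
    have h6 := Nat.le_of_dvd (by norm_num) h3
    interval_cases ℓ
    · omega
    · exact absurd hℓ (by norm_num)

theorem hone {x : Kˣ × Kˣ} {ℓ : ℕ} (hℓ : ℓ.Prime) (h5 : 5 ≤ ℓ) (h1 : x.1 ^ ℓ = 1) (h2 : x.2 ^ ℓ = 1)
    (hx : hhh K x ≠ 1) (z z' : Fin 2 → ℤ) (hz : IsRoot CoxeterMatrix.G₂.toCoxeterSystem hpG2.isCartan z)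
    (hz' : IsRoot CoxeterMatrix.G₂.toCoxeterSystem hpG2.isCartan z') (hf : NF (XX chevG2 2 K) (hhh K x) z)
    (hf' : NF (XX chevG2 2 K) (hhh K x) z') : z = z' ∨ z = -z' := by
  obtain ⟨s, hs, rfl⟩ := (isRoot_iff hpG2 _ z).1 hz
  obtain ⟨t, ht, rfl⟩ := (isRoot_iff hpG2 _ z').1 hz'
  have e1 := of_nf hs hf
  have e2 := of_nf ht hf'
  obtain ⟨d1, d2⟩ := det_tab s (by rw [← nroots_eq]; exact hs) t (by rw [← nroots_eq]; exact ht)
  by_cases hD : chevG2.cartan 0 s * chevG2.cartan 1 t - chevG2.cartan 0 t * chevG2.cartan 1 s = 0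
  · rcases d1 hD with h3 | h3
    · exact Or.inl (funext h3)
    · exact Or.inr (funext h3)
  · exfalso
    apply hx
    have f1 : x.1 ^ (chevG2.cartan 0 s * chevG2.cartan 1 t - chevG2.cartan 0 t * chevG2.cartan 1 s) = 1 := by
      have e3 : (x.1 ^ (chevG2.cartan 0 s) * x.2 ^ (chevG2.cartan 1 s)) ^ (chevG2.cartan 1 t) *
          ((x.1 ^ (chevG2.cartan 0 t) * x.2 ^ (chevG2.cartan 1 t)) ^ (chevG2.cartan 1 s))⁻¹ = 1 := by
        rw [e1, e2, one_zpow, one_zpow, inv_one, mul_one]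
      rw [mul_zpow, mul_zpow, ← zpow_mul, ← zpow_mul, ← zpow_mul, ← zpow_mul] at e3
      rw [← e3, zpow_sub, mul_comm (chevG2.cartan 1 t) (chevG2.cartan 1 s), mul_inv]
      generalize x.2 ^ (chevG2.cartan 1 s * chevG2.cartan 1 t) = b
      rw [mul_mul_mul_comm, mul_inv_cancel, mul_one]
    have f2 : x.2 ^ (chevG2.cartan 0 s * chevG2.cartan 1 t - chevG2.cartan 0 t * chevG2.cartan 1 s) = 1 := by
      have e3 : (x.1 ^ (chevG2.cartan 0 t) * x.2 ^ (chevG2.cartan 1 t)) ^ (chevG2.cartan 0 s) *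
          ((x.1 ^ (chevG2.cartan 0 s) * x.2 ^ (chevG2.cartan 1 s)) ^ (chevG2.cartan 0 t))⁻¹ = 1 := by
        rw [e1, e2, one_zpow, one_zpow, inv_one, mul_one]
      rw [mul_zpow, mul_zpow, ← zpow_mul, ← zpow_mul, ← zpow_mul, ← zpow_mul] at e3
      rw [← e3, zpow_sub, mul_comm (chevG2.cartan 0 t) (chevG2.cartan 0 s), mul_inv,
        mul_comm (chevG2.cartan 1 t) (chevG2.cartan 0 s), mul_comm (chevG2.cartan 1 s) (chevG2.cartan 0 t)]
      generalize x.1 ^ (chevG2.cartan 0 s * chevG2.cartan 0 t) = b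
      rw [mul_mul_mul_comm, mul_inv_cancel, one_mul]
    have g1 := eq_one_of_pow hℓ h5 h1 (d2 hD) f1
    have g2 := eq_one_of_pow hℓ h5 h2 (d2 hD) f2
    rw [show x = 1 from Prod.ext g1 g2, map_one]

/-- the torus map is injective -/
theorem hhh_injective : Function.Injective (hhh K) := by
  rw [injective_iff_map_eq_one]
  intro x hx
  have key : ∀ s < chevG2.nroots, x.1 ^ (chevG2.cartan 0 s) * x.2 ^ (chevG2.cartan 1 s) = 1 := by
    intro s hs
    refine of_nf hs ⟨⟨xG hpG2.inList s 1, xG_mem_group hpG2.inList s 1⟩, (mem_XX hs rfl).2 ⟨1, rfl⟩, ?_, ?_⟩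
    · intro h1
      have h2 := xG_injective hpG2.inList hs ((congrArg Subtype.val h1).trans (xG_zero hpG2.inList s).symm)
      exact one_ne_zero h2
    · rw [hx, one_mul, mul_one]
  obtain ⟨c1, c2, c3, c4⟩ := ctab2
  have k7 := key 7 (by rw [nroots_eq]; norm_num)
  have k6 := key 6 (by rw [nroots_eq]; norm_num)
  rw [c1, c2] at k7
  rw [c3, c4] at k6
  have e1 : x.2 = x.1 ^ (2 : ℤ) := by
    rw [zpow_neg_one, mul_inv_eq_one] at k7
    exact k7.symm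
  rw [e1, ← zpow_mul, ← zpow_add] at k6
  norm_num at k6
  rw [k6, one_zpow] at e1
  exact Prod.ext k6 e1

variable [Fintype K]

theorem card_PJ_G2 (i : Fin 2) :
    Nat.card ↥(PJ CoxeterMatrix.G₂.toCoxeterSystem hpG2.isCartan (TT chevG2 K) (XX chevG2 2 K) {i}) =
      Fintype.card K ^ 6 * ((Fintype.card K - 1) ^ 2 * (Fintype.card K + 1)) := by
  have h1 := Subgroup.card_mul_index (PJ CoxeterMatrix.G₂.toCoxeterSystem hpG2.isCartan (TT chevG2 K)
    (XX chevG2 2 K) {i})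
  have hq : 1 ≤ Fintype.card K := Fintype.card_pos
  rw [index_eq'', Cfsg.Agent.S1059.result rfl, card_factor hq, ← quartic hq] at h1
  have h2 : 0 < (Fintype.card K + 1) * (Fintype.card K ^ 4 + Fintype.card K ^ 2 + 1) := by positivity
  apply Nat.eq_of_mul_eq_mul_right h2
  rw [h1]
  ring

theorem coprime_aux {q a : ℕ} (h : ∀ r : ℕ, r.Prime → r ∣ a → ¬ r ∣ q ∧ ¬ r ∣ q - 1 ∧ ¬ r ∣ q + 1) :
    (q ^ 6 * ((q - 1) ^ 2 * (q + 1))).Coprime a := by
  refine Nat.coprime_of_dvd fun r hr h1 h2 => ?_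
  obtain ⟨a1, a2, a3⟩ := h r hr h2
  rcases (hr.dvd_mul).1 h1 with h3 | h3
  · exact a1 (hr.dvd_of_dvd_pow h3)
  · rcases (hr.dvd_mul).1 h3 with h4 | h4
    · exact a2 (hr.dvd_of_dvd_pow h4)
    · exact a3 h4

theorem cop3 {q : ℕ} (hq : 1 ≤ q) (h3 : ¬ 3 ∣ q ^ 2 + q + 1) :
    (q ^ 6 * ((q - 1) ^ 2 * (q + 1))).Coprime (q ^ 2 + q + 1) := by
  refine coprime_aux fun r hr hra => ⟨fun h1 => ?_, fun h1 => ?_, fun h1 => ?_⟩
  · have h2 : r ∣ q * (q + 1) := h1.mul_right _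
    have h4 := (Nat.dvd_add_right h2).1 (show r ∣ q * (q + 1) + 1 by convert hra using 1; ring)
    exact hr.one_lt.ne' (Nat.dvd_one.1 h4)
  · obtain ⟨k, rfl⟩ := Nat.exists_eq_add_of_le hq
    rw [Nat.add_sub_cancel_left] at h1
    have h2 : r ∣ k * (k + 3) := h1.mul_right _
    have h4 := (Nat.dvd_add_right h2).1 (show r ∣ k * (k + 3) + 3 by convert hra using 1; ring)
    rw [(Nat.prime_dvd_prime_iff_eq hr Nat.prime_three).1 h4] at hra
    exact h3 hra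
  · have h2 : r ∣ q * (q + 1) := h1.mul_left _
    have h4 := (Nat.dvd_add_right h2).1 (show r ∣ q * (q + 1) + 1 by convert hra using 1; ring)
    exact hr.one_lt.ne' (Nat.dvd_one.1 h4)

theorem cop6 {q : ℕ} (hq : 2 ≤ q) (h3 : ¬ 3 ∣ q * (q - 1) + 1) :
    (q ^ 6 * ((q - 1) ^ 2 * (q + 1))).Coprime (q * (q - 1) + 1) := by
  refine coprime_aux fun r hr hra => ⟨fun h1 => ?_, fun h1 => ?_, fun h1 => ?_⟩
  · exact hr.one_lt.ne' (Nat.dvd_one.1 ((Nat.dvd_add_right (h1.mul_right _)).1 hra))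
  · exact hr.one_lt.ne' (Nat.dvd_one.1 ((Nat.dvd_add_right (h1.mul_left _)).1 hra))
  · obtain ⟨k, rfl⟩ := Nat.exists_eq_add_of_le hq
    rw [show 2 + k - 1 = k + 1 by omega] at hra h3
    have h2 : r ∣ k * (2 + k + 1) := h1.mul_left _
    have h4 := (Nat.dvd_add_right h2).1 (show r ∣ k * (2 + k + 1) + 3 by convert hra using 1; ring)
    rw [(Nat.prime_dvd_prime_iff_eq hr Nat.prime_three).1 h4] at hra
    exact h3 hra

/-- the family of cuspidal characters -/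
theorem exists_E (h8 : 8 ≤ Fintype.card K) : ∃ E : Finset (IrrCharacter ↥(chevG2.group K)),
    (∀ i, ∀ χ ∈ E, ∀ χ' ∈ E, ∀ x ∈ PJ CoxeterMatrix.G₂.toCoxeterSystem hpG2.isCartan (TT chevG2 K)
      (XX chevG2 2 K) {i}, (χ : ↥(chevG2.group K) → ℂ) x = (χ' : ↥(chevG2.group K) → ℂ) x) ∧
    (12 < E.card ∨ (Fintype.card K = 8 ∧ E.card = 12)) := by
  classical
  have := Fintype.ofFinite ↥(chevG2.group K)
  obtain ⟨q, hq⟩ : ∃ q, q = Fintype.card K := ⟨_, rfl⟩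
  have hcard := Cfsg.Agent.S1059.result (F := K) hq.symm
  have hP := card_PJ_G2 (K := K)
  rw [← hq] at h8 hP ⊢
  have hc : (Nat.card ↥(chevG2.group K) : ℤ) = (q : ℤ) ^ 6 * ((q : ℤ) ^ 2 - 1) * ((q : ℤ) ^ 6 - 1) := by
    rw [hcard]
    push_cast [Cfsg.Agent.H504.ZerosExc.cast_sub (d := 2) (show 1 ≤ q by omega),
      Cfsg.Agent.H504.ZerosExc.cast_sub (d := 6) (show 1 ≤ q by omega)]
    ring
  by_cases h3 : q % 3 = 1
  · obtain ⟨a, ha⟩ : ∃ a, a = q * (q - 1) + 1 := ⟨_, rfl⟩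
    have haz : (a : ℤ) = 1 - (q : ℤ) + (q : ℤ) ^ 2 := by
      rw [ha]
      push_cast [Nat.cast_sub (show 1 ≤ q by omega)]
      ring
    have h3a : ¬ 3 ∣ a := by
      intro h
      have h5 : (3 : ℤ) ∣ 1 - (q : ℤ) + (q : ℤ) ^ 2 := by rw [← haz]; exact_mod_cast h
      obtain ⟨c, hc'⟩ : ∃ c : ℤ, (q : ℤ) = 3 * c + 1 := ⟨(q : ℤ) / 3, by omega⟩
      rw [hc'] at h5
      ring_nf at h5
      omega
    have h6 : 6 ∣ q * (q - 1) := by
      have h7 : 2 ∣ q * (q - 1) := by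
        obtain ⟨k, rfl⟩ := Nat.exists_eq_add_of_le (show 1 ≤ q by omega)
        rw [Nat.add_sub_cancel_left, mul_comm]
        have := (Nat.even_mul_succ_self k).two_dvd
        rwa [add_comm k 1] at this
      have h8 : 3 ∣ q * (q - 1) := Dvd.dvd.mul_left (by omega) _
      exact Nat.Coprime.mul_dvd_of_dvd_of_dvd (by norm_num) h7 h8
    obtain ⟨s, hs⟩ := h6
    have hs12 : 12 < s := by
      have h9 : 10 ≤ q := by omega
      have h10 : 10 * 9 ≤ q * (q - 1) := Nat.mul_le_mul h9 (by omega)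
      omega
    obtain ⟨E, hE1, hE2⟩ := exists_family (a := a) (e := 6) (s := s) (Cfsg.Agent.H129.CycT.exact_G2_6 hq.symm haz h3a)
      (by omega) (by omega) (N := (q : ℤ) ^ 6 * ((q : ℤ) ^ 2 - 1) * (-1 - (q : ℤ) + (q : ℤ) ^ 3 + (q : ℤ) ^ 4)) (by
        rw [hc, haz]
        ring) (by
        have h5 := Cfsg.Agent.H504.ZerosExc.zmod_zero haz
        push_cast at h5 ⊢
        exact Cfsg.Agent.H504.ZerosMod.mod_G2_6 h5) (by rw [ha, hs]; ring) (by omega)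
    refine ⟨E, fun i χ hχ χ' hχ' x hx => hE2 χ hχ χ' hχ' _ ?_ x hx, Or.inl (by omega)⟩
    rw [hP i, ha]
    exact cop6 (by omega) (by rw [← ha]; exact h3a)
  · obtain ⟨a, ha⟩ : ∃ a, a = q ^ 2 + q + 1 := ⟨_, rfl⟩
    have haz : (a : ℤ) = 1 + (q : ℤ) + (q : ℤ) ^ 2 := by
      rw [ha]
      push_cast
      ring
    have h3a : ¬ 3 ∣ a := by
      intro h
      have h5 : (3 : ℤ) ∣ 1 + (q : ℤ) + (q : ℤ) ^ 2 := by rw [← haz]; exact_mod_cast h
      have h6 : q % 3 = 0 ∨ q % 3 = 2 := by omega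
      rcases h6 with h6 | h6
      · obtain ⟨c, hc'⟩ : ∃ c : ℤ, (q : ℤ) = 3 * c := ⟨(q : ℤ) / 3, by omega⟩
        rw [hc'] at h5
        ring_nf at h5
        omega
      · obtain ⟨c, hc'⟩ : ∃ c : ℤ, (q : ℤ) = 3 * c + 2 := ⟨(q : ℤ) / 3, by omega⟩
        rw [hc'] at h5
        ring_nf at h5
        omega
    have h6 : 6 ∣ q * (q + 1) := by
      have h7 : 2 ∣ q * (q + 1) := (Nat.even_mul_succ_self q).two_dvd
      have h8 : 3 ∣ q * (q + 1) := by
        have h9 : q % 3 = 0 ∨ q % 3 = 2 := by omega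
        rcases h9 with h9 | h9
        · exact Dvd.dvd.mul_right (by omega) _
        · exact Dvd.dvd.mul_left (by omega) _
      exact Nat.Coprime.mul_dvd_of_dvd_of_dvd (by norm_num) h7 h8
    obtain ⟨s, hs⟩ := h6
    have hs12 : 12 < s ∨ (q = 8 ∧ s = 12) := by
      rcases Nat.lt_or_ge q 9 with h9 | h9
      · right
        have h10 : q = 8 := by omega
        refine ⟨h10, ?_⟩
        rw [h10] at hs
        omega
      · left
        have h10 : 9 * 10 ≤ q * (q + 1) := Nat.mul_le_mul h9 (by omega)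
        omega
    have has : a = s * 6 + 1 := by rw [ha, show q ^ 2 + q = q * (q + 1) by ring, hs]; ring
    obtain ⟨E, hE1, hE2⟩ := exists_family (a := a) (e := 6) (s := s) (Cfsg.Agent.H129.CycT.exact_G2_3 hq.symm haz h3a)
      (by omega) (by omega) (N := (q : ℤ) ^ 6 * ((q : ℤ) ^ 2 - 1) * (-1 + (q : ℤ) - (q : ℤ) ^ 3 + (q : ℤ) ^ 4)) (by
        rw [hc, haz]
        ring) (by
        have h5 := Cfsg.Agent.H504.ZerosExc.zmod_zero haz
        push_cast at h5 ⊢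
        exact Cfsg.Agent.H504.ZerosMod.mod_G2_3 h5) has.symm (by omega)
    refine ⟨E, fun i χ hχ χ' hχ' x hx => hE2 χ hχ χ' hχ' _ ?_ x hx, ?_⟩
    · rw [hP i, ha]
      exact cop3 (by omega) (by rw [← ha]; exact h3a)
    · rw [hE1]
      exact hs12

/-- **`G₂(q)`, `5 ≤ p ∣ q - 1`.** -/
theorem g2_cusp {ℓ : ℕ} (hℓ : ℓ.Prime) (h5 : 5 ≤ ℓ) (hd : ℓ ∣ Fintype.card K - 1) :
    H33.IM (ℓ ^ 2) ↥(chevG2.group K) := by
  classical
  have := Fintype.ofFinite ↥(chevG2.group K)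
  have := Fact.mk hℓ
  obtain ⟨r, f, hr, hch, hf, hcard⟩ := H115.HC.Rows.exists_char K
  have := Fact.mk hr
  have h1q : 1 < Fintype.card K := Fintype.one_lt_card
  have h8 : 8 ≤ Fintype.card K := by
    have h6 : ℓ ≤ Fintype.card K - 1 := Nat.le_of_dvd (by omega) hd
    have h7 : Fintype.card K ≠ 6 := by
      intro h
      rw [h] at hcard
      have h8 : 2 ∣ r := Nat.prime_two.dvd_of_dvd_pow (n := f) (by rw [← hcard]; norm_num)
      have h9 : 3 ∣ r := Nat.prime_three.dvd_of_dvd_pow (n := f) (by rw [← hcard]; norm_num)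
      have h10 := (Nat.prime_dvd_prime_iff_eq Nat.prime_two hr).1 h8
      have h11 := (Nat.prime_dvd_prime_iff_eq Nat.prime_three hr).1 h9
      omega
    by_contra h8
    have h9 : Fintype.card K = 7 := by omega
    rw [h9] at hd h6
    have h10 : ℓ = 5 ∨ ℓ = 6 := by omega
    rcases h10 with rfl | rfl
    · norm_num at hd
    · exact absurd hℓ (by norm_num)
  have hfin := finite_W hpG2 CoxeterMatrix.G₂.toCoxeterSystem
  have R := rgd (K := K) hpG2 CoxeterMatrix.G₂.toCoxeterSystem r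
  have hW : Nat.card CoxeterMatrix.G₂.Group = 12 := Cfsg.Agent.S1092.result (⟨2, CoxeterMatrix.G₂⟩, 12) (by simp)
  obtain ⟨d, hdo⟩ := exists_prime_orderOf_dvd_card (G := Kˣ) ℓ (by rwa [Fintype.card_units])
  have hprim : IsPrimitiveRoot d ℓ := by
    rw [← hdo]
    exact IsPrimitiveRoot.orderOf d
  have hprim' : IsPrimitiveRoot (d : K) ℓ := IsPrimitiveRoot.coe_units_iff.2 hprim
  have hroots : Nat.card (rootsOfUnity ℓ K) = ℓ := hprim'.card_rootsOfUnity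
  set φ : rootsOfUnity ℓ K × rootsOfUnity ℓ K →* ↥(chevG2.group K) :=
    (hhh K).comp (MonoidHom.prodMap (rootsOfUnity ℓ K).subtype (rootsOfUnity ℓ K).subtype) with hφ
  have hφi : Function.Injective φ := by
    refine hhh_injective.comp ?_
    rintro ⟨a, b⟩ ⟨c, e⟩ hx
    have e1 := congrArg Prod.fst hx
    have e2 := congrArg Prod.snd hx
    exact Prod.ext (Subtype.ext e1) (Subtype.ext e2)
  have hE₀ : Nat.card φ.range = ℓ ^ 2 := by
    rw [← Nat.card_congr (MonoidHom.ofInjective hφi).toEquiv, Nat.card_prod, hroots, sq]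
  rw [← hE₀]
  obtain ⟨E, hE, hEc⟩ := exists_E (K := K) h8
  refine dvd_of_family R (GG_eq_top hpG2 K _) TT_comm E hE (by omega) ?_ ?_ ?_
  · rcases hEc with h1 | ⟨h1, h2⟩
    · left
      rw [hW]
      exact h1
    · right
      refine ⟨hW.trans h2.symm, fun h3 => ?_⟩
      rw [h2] at h3
      have h4 := h3.trans (Subgroup.index_dvd_of_le (B_le_PJ (cs := CoxeterMatrix.G₂.toCoxeterSystem)
        (h := hpG2.isCartan) (T := TT chevG2 K) (X := XX chevG2 2 K) (J := ∅)))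
      have h5 := Subgroup.relIndex_mul_index (B_le_PJ (cs := CoxeterMatrix.G₂.toCoxeterSystem)
        (h := hpG2.isCartan) (T := TT chevG2 K) (X := XX chevG2 2 K) (J := {0}))
      rw [Cfsg.Agent.H554.RG.relIndex_B_PJ_singleton R 0, index_eq'',
        card_XX hpG2 K CoxeterMatrix.G₂.toCoxeterSystem (isRoot_sr _ hpG2.isCartan 0), Nat.card_eq_fintype_card,
        h1] at h5
      rw [← h5] at h4
      norm_num at h4
  · rintro _ ⟨x, rfl⟩
    exact hhh_mem _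
  · rintro _ ⟨x, rfl⟩ hx1 z z' hz hz' hf hf'
    exact hone hℓ h5 (x := (x.1.1, x.2.1)) x.1.2 x.2.2 hx1 z z' hz hz' hf hf'

end Cfsg.Agent.H811.PSq.GTwo
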