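import Cfsg.Agent.H811.PSq.RankTwo

/-!
# Fixed points on opposite root groups (helper811, S4844)

* `nf_neg` : an element of `T` with fixed points on `X (-z)` has fixed points on `X z`;
* `dvd_of_family'` : `dvd_of_family` with the condition on the positive roots only.
-/

set_option autoImplicit false

open scoped ComplexConjugate
open Cfsg

namespace Cfsg.Agent.H811.PSq

open CoxeterSystem Cfsg.Agent.ChevalleyStructure.CoxeterGeom Cfsg.Agent.Tits.Roots Cfsg.Agent.Tits.Core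
  Cfsg.Agent.Tits.Exchange Cfsg.Agent.Nodes.Reps Cfsg.Agent.Nodes.BNOf Cfsg.Agent.Nodes.StabComb
  Cfsg.Agent.Nodes.Bruhat Cfsg.Agent.Nodes.OppDec Cfsg.Agent.Nodes.LeviDec Cfsg.Agent.Nodes.Unique
  Cfsg.Agent.Tits.RootComb Cfsg.Agent.Nodes.Comb Cfsg.Agent.Nodes.BNOf.RGD

section gen

variable {I W Y : Type*} [Fintype I] [DecidableEq I] [Group W] [Group Y] {M : CoxeterMatrix I}
  {cs : CoxeterSystem M W} {A : I → I → ℤ} {h : IsCartan M A} {p : ℕ} {T : Subgroup Y} {n : I → Y}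
  {X : (I → ℤ) → Subgroup Y}

variable (R : RGD cs h p T n X)

include R

theorem conj_X {x : Y} (hx : x ∈ T) {z : I → ℤ} (hz : IsRoot cs h z) {u : Y} (hu : u ∈ X z) : x * u * x⁻¹ ∈ X z := by
  have h1 := R.tor z hz x hx
  rw [← h1]
  exact conj_mem_cj.2 hu

theorem nf_neg_simple [Finite W] {x : Y} (hx : x ∈ T) (i : I) (hf : NF X x (-sr i)) : NF X x (sr i) := by
  obtain ⟨u, hu, hu1, hxu⟩ := hf
  obtain ⟨a, ha, t, ht, b, hb, rfl⟩ := R.rk1 i u hu hu1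
  have ha' := conj_X R hx (isRoot_sr cs h i) ha
  have hb' := conj_X R hx (isRoot_sr cs h i) hb
  have hn := (rp_simple cs R.nsys i).mem_normalizer
  have ht' : n i * x⁻¹ * (n i)⁻¹ ∈ T := (Subgroup.mem_normalizer_iff.1 hn _).1 (inv_mem hx)
  have hneg : ∀ v ∈ X (sr i), n i * v * (n i)⁻¹ ∈ X (-sr i) := by
    intro v hv
    have := R.conj_mem (rp_simple cs R.nsys i) (isRoot_sr cs h i) hv
    rwa [rep_simple_sr] at this
  -- `b` commutes with `x`
  have e1 : (x * a * x⁻¹) * (x * t * (n i * x⁻¹ * (n i)⁻¹)) * n i * (x * b * x⁻¹) = a * t * n i * b := by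
    calc (x * a * x⁻¹) * (x * t * (n i * x⁻¹ * (n i)⁻¹)) * n i * (x * b * x⁻¹) = x * (a * t * n i * b) * x⁻¹ := by group
      _ = a * t * n i * b := by rw [hxu]; group
  set a' := x * a * x⁻¹ with ha'def
  set b' := x * b * x⁻¹ with hb'def
  set t' := x * t * (n i * x⁻¹ * (n i)⁻¹) with ht'def
  have htT : t' ∈ T := mul_mem (mul_mem hx ht) ht'
  have e2 : n i * (b' * b⁻¹) * (n i)⁻¹ = t'⁻¹ * (a'⁻¹ * a) * t := by
    calc n i * (b' * b⁻¹) * (n i)⁻¹ = t'⁻¹ * a'⁻¹ * (a' * t' * n i * b') * b⁻¹ * (n i)⁻¹ := by group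
      _ = t'⁻¹ * a'⁻¹ * (a * t * n i * b) * b⁻¹ * (n i)⁻¹ := by rw [e1]
      _ = _ := by group
  have hB : ∀ v ∈ X (sr i), v ∈ B cs h T X := fun v hv => X_le_B (isRoot_sr cs h i) (sr_nonneg i) hv
  have hT : ∀ v ∈ T, v ∈ B cs h T X := fun v hv => Subgroup.mem_sup_left hv
  have h1 : n i * (b' * b⁻¹) * (n i)⁻¹ ∈ X (-sr i) ⊓ B cs h T X :=
    ⟨hneg _ (mul_mem hb' (inv_mem hb)), by
      rw [e2]
      exact (B cs h T X).mul_mem ((B cs h T X).mul_mem ((B cs h T X).inv_mem (hT _ htT))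
        ((B cs h T X).mul_mem ((B cs h T X).inv_mem (hB _ ha')) (hB _ ha))) (hT _ ht)⟩
  rw [neg_inf_B R i, Subgroup.mem_bot] at h1
  have h2 : b' = b := by
    have h3 : b' * b⁻¹ = 1 := by
      calc b' * b⁻¹ = (n i)⁻¹ * (n i * (b' * b⁻¹) * (n i)⁻¹) * n i := by group
        _ = 1 := by rw [h1]; group
    exact mul_inv_eq_one.1 h3
  have h4 : x * b = b * x := by
    calc x * b = b' * x := by rw [hb'def]; group
      _ = b * x := by rw [h2]
  refine ⟨b, hb, ?_, h4⟩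
  -- `b ≠ 1`
  rintro rfl
  apply hu1
  rw [mul_one] at hu ⊢
  -- conjugation by `a t n_i ∈ X_{-i}` maps `X_{-i}` to `a X_i a⁻¹ = X_i`
  have h5 : X (-sr i) ≤ X (sr i) := by
    intro v hv
    have h6 : (n i) * ((a * t * n i)⁻¹ * v * (a * t * n i)) * (n i)⁻¹ ∈ X (sr i) := by
      have h7 : (a * t * n i)⁻¹ * v * (a * t * n i) ∈ X (-sr i) := mul_mem (mul_mem (inv_mem hu) hv) hu
      have h8 := R.conj_mem (rp_simple cs R.nsys i) (isRoot_sr cs h i).neg h7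
      rwa [map_neg, rep_simple_sr, neg_neg] at h8
    have h9 := mul_mem (mul_mem ha (conj_X R ht (isRoot_sr cs h i) h6)) (inv_mem ha)
    have e3 : a * (t * (n i * ((a * t * n i)⁻¹ * v * (a * t * n i)) * (n i)⁻¹) * t⁻¹) * a⁻¹ = v := by group
    rwa [e3] at h9
  have h10 : a * t * n i ∈ X (-sr i) ⊓ B cs h T X := ⟨hu, hB _ (h5 hu)⟩
  rwa [neg_inf_B R i, Subgroup.mem_bot] at h10

/-- **Opposite root groups.** -/
theorem nf_neg [Finite W] {x : Y} (hx : x ∈ T) {z : I → ℤ} (hz : IsRoot cs h z) (hf : NF X x (-z)) : NF X x z := by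
  obtain ⟨w, i, rfl⟩ := hz
  obtain ⟨g, hg⟩ := exists_rp cs R.nsys w
  have hgT : g⁻¹ * x * g ∈ T := by
    have := (Subgroup.mem_normalizer_iff.1 (inv_mem hg.mem_normalizer) x).1 hx
    rwa [inv_inv] at this
  have h1 : NF X (g⁻¹ * x * g) (-sr i) := by
    have h2 : NF X ((g⁻¹)⁻¹ * (g⁻¹ * x * g) * g⁻¹) (-(rep cs h w (sr i))) := by
      have e : (g⁻¹)⁻¹ * (g⁻¹ * x * g) * g⁻¹ = x := by group
      rwa [e]
    have h3 := nf_conj R hg.inv ((isRoot_sr cs h i).act w).neg h2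
    rwa [map_neg, rep_inv_apply] at h3
  exact nf_conj R hg (isRoot_sr cs h i) (nf_neg_simple R hgT i h1)

theorem hone_of_pos [Finite W] {x : Y} (hx : x ∈ T)
    (hone : ∀ z z', IsRoot cs h z → IsRoot cs h z' → 0 ≤ z → 0 ≤ z' → NF X x z → NF X x z' → z = z')
    (z z' : I → ℤ) (hz : IsRoot cs h z) (hz' : IsRoot cs h z') (hf : NF X x z) (hf' : NF X x z') : z = z' ∨ z = -z' := by
  have key : ∀ y : I → ℤ, IsRoot cs h y → NF X x y → ∃ y' : I → ℤ, (y' = y ∨ y' = -y) ∧ 0 ≤ y' ∧ IsRoot cs h y' ∧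
      NF X x y' := by
    intro y hy hfy
    rcases hy.pos_or_neg with h1 | h1
    · exact ⟨y, Or.inl rfl, h1, hy, hfy⟩
    · refine ⟨-y, Or.inr rfl, neg_nonneg.2 h1, hy.neg, nf_neg R hx hy.neg ?_⟩
      rwa [neg_neg]
  obtain ⟨y, h1, h2, h3, h4⟩ := key z hz hf
  obtain ⟨y', h1', h2', h3', h4'⟩ := key z' hz' hf'
  have e := hone y y' h3 h3' h2 h2' h4 h4'
  subst e
  rcases h1 with rfl | rfl <;> rcases h1' with h5 | h5
  · exact Or.inl h5
  · exact Or.inr h5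
  · right
    rw [← h5, neg_neg]
  · left
    exact neg_injective h5

end gen

section two

variable {W Y : Type*} [Group W] [Group Y] {M : CoxeterMatrix (Fin 2)}
  {cs : CoxeterSystem M W} {A : Fin 2 → Fin 2 → ℤ} {h : IsCartan M A} {p : ℕ} {T : Subgroup Y} {n : Fin 2 → Y}
  {X : (Fin 2 → ℤ) → Subgroup Y}

/-- **A family of characters in rank two**, the condition on the positive roots only. -/
theorem dvd_of_family' (R : RGD cs h p T n X) [Finite W] [Fintype Y] (hG : GG cs h T X = ⊤)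
    (hTc : ∀ a ∈ T, ∀ b ∈ T, a * b = b * a) (E : Finset (IrrCharacter Y))
    (hE : ∀ i, ∀ χ ∈ E, ∀ χ' ∈ E, ∀ x ∈ PJ cs h T X {i}, (χ : Y → ℂ) x = (χ' : Y → ℂ) x)
    (h2 : 2 < E.card) (hcard : Nat.card W < E.card ∨ (Nat.card W = E.card ∧ ¬ E.card ∣ (PJ cs h T X ∅).index))
    {E₀ : Subgroup Y} (hE₀ : E₀ ≤ T)
    (hone : ∀ x ∈ E₀, x ≠ 1 → ∀ z z', IsRoot cs h z → IsRoot cs h z' → 0 ≤ z → 0 ≤ z' → NF X x z → NF X x z' →
      z = z') : H33.IM (Nat.card E₀) Y :=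
  dvd_of_family R hG hTc E hE h2 hcard hE₀ fun x hx hx1 => hone_of_pos R (hE₀ hx) (hone x hx hx1)

end two

end Cfsg.Agent.H811.PSq
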