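import Cfsg.Agent.H53.HC.Rgd
import Cfsg.Agent.H720.PV.Regular

/-!
# The norm of an induced character (helper811, S4844)

* `irr_of_comp` : a character whose restriction is irreducible is irreducible;
* `norm_le` : `[Ind ψ, Ind ψ] ≤ k`, `k` the number of double cosets which contribute;
* `card_le` : the number of constituents.
-/

set_option autoImplicit false

open scoped ComplexConjugate
open Cfsg

namespace Cfsg.Agent.H811.PSq

open Cfsg.Agent.OddOrderCharacters.Clifford Cfsg.Agent.Characters Cfsg.Agent.H53.HC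

universe u

/-- a character whose restriction is irreducible is irreducible -/
theorem irr_of_comp {D L : Type*} [Group D] [Finite D] [Group L] [Finite L] (f : L →* D)
    {χ : D → ℂ} (hχ : IsCharacter D χ) (h : IsIrrCharacter L (χ ∘ f)) : IsIrrCharacter D χ := by
  classical
  have := Fintype.ofFinite D
  have := Fintype.ofFinite L
  have h0 : classInner χ χ ≠ 0 := by
    intro h1
    have h2 := Core.classInner_self_eq_zero h1
    rw [h2] at h
    exact Core.isIrr_ne_zero h rfl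
  obtain ⟨χ₁, hχ₁, h1, -⟩ := exists_common hχ hχ h0
  have h2 := isCharacter_sub_irr hχ hχ₁ h1
  have h3 : IsCharacter L (χ₁ ∘ f) := Core.isCharacter_comp f (Core.isIrr_isCharacter hχ₁)
  have h4 : IsCharacter L ((χ - χ₁) ∘ f) := Core.isCharacter_comp f h2
  have e1 : χ ∘ f = χ₁ ∘ f + (χ - χ₁) ∘ f := by ext x; simp
  have h5 := Core.classInner_irr_self h
  rw [e1, Core.classInner_add_left, Core.classInner_add_right, Core.classInner_add_right] at h5
  obtain ⟨a, ea⟩ := Core.classInner_isNat h3 h3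
  obtain ⟨b, eb⟩ := Core.classInner_isNat h3 h4
  obtain ⟨c, ec⟩ := Core.classInner_isNat h4 h3
  obtain ⟨d, ed⟩ := Core.classInner_isNat h4 h4
  rw [ea, eb, ec, ed] at h5
  have h6 : a + b + (c + d) = 1 := by exact_mod_cast h5
  have ha : a ≠ 0 := by
    rintro rfl
    have h7 := Core.classInner_self_eq_zero (by rw [ea, Nat.cast_zero])
    have h8 := congrFun h7 1
    simp only [Function.comp_apply, map_one, Pi.zero_apply] at h8
    exact Core.isIrr_apply_one_ne_zero hχ₁ h8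
  have hd : d = 0 := by omega
  rw [hd, Nat.cast_zero] at ed
  have h7 := Core.classInner_self_eq_zero ed
  have h8 := congrFun h7 1
  simp only [Function.comp_apply, map_one, Pi.zero_apply, Pi.sub_apply] at h8
  -- a character of degree zero vanishes
  by_cases h9 : classInner (χ - χ₁) (χ - χ₁) = 0
  · have h10 := Core.classInner_self_eq_zero h9
    rw [sub_eq_zero.1 h10]
    exact hχ₁
  · exfalso
    obtain ⟨χ₂, hχ₂, h11, -⟩ := exists_common h2 h2 h9
    have h12 := isCharacter_sub_irr h2 hχ₂ h11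
    obtain ⟨m, hm0, hm⟩ := Core.isIrr_apply_one hχ₂
    obtain ⟨m', hm'⟩ := Core.isCharacter_apply_one h12
    have h13 : (χ - χ₁) 1 = ((m + m' : ℕ) : ℂ) := by
      rw [Nat.cast_add, ← hm, ← hm']
      simp only [Pi.sub_apply]
      ring
    rw [Pi.sub_apply, h8] at h13
    have : m + m' = 0 := by exact_mod_cast h13.symm
    omega

variable {G : Type u} [Group G]

/-- **The Mackey term** of `x` is at most `|T ∩ x T x⁻¹|`. -/
theorem norm_twist_le [Finite G] (T : Subgroup G) [Fintype T] {ψ : T → ℂ} (hψ : IsIrrCharacter T ψ) (x : G)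
    (L : Subgroup G) (hL : L ≤ T) (hL' : ∀ l ∈ L, x⁻¹ * l * x ∈ T)
    (h1 : IsIrrCharacter L (fun l => ψ ⟨l, hL l.2⟩))
    (h2 : IsIrrCharacter L (fun l => ψ ⟨x⁻¹ * l * x, hL' l l.2⟩)) :
    ‖twist T ψ ψ x‖ ≤ Nat.card (dsub T x) := by
  classical
  have : Fintype (dsub T x) := Fintype.ofFinite _
  have hc := Core.isIrr_isCharacter hψ
  let f : L →* dsub T x :=
    { toFun := fun l => ⟨⟨l, hL l.2⟩, (mem_dsub T x _).2 (hL' l l.2)⟩
      map_one' := rfl
      map_mul' := fun _ _ => rfl }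
  have hα' : IsIrrCharacter (dsub T x) (ψ ∘ (dsub T x).subtype) := irr_of_comp f (Core.isCharacter_comp _ hc) h1
  have hβ' : IsIrrCharacter (dsub T x) (ψ ∘ dhom T x) := irr_of_comp f (Core.isCharacter_comp _ hc) h2
  have h3 : twist T ψ ψ x = (Nat.card (dsub T x) : ℂ) * classInner (ψ ∘ (dsub T x).subtype) (ψ ∘ dhom T x) := by
    rw [classInner_apply, mul_inv_cancel_left₀ card_ne_zero', twist_def, sum_eq_sum_subgroup (dsub T x)]
    · refine Finset.sum_congr rfl fun d _ => ?_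
      rw [ext_apply_mem T ψ _ ((mem_dsub T x d).1 d.2)]
      rfl
    · intro t ht
      rw [mem_dsub] at ht
      rw [ext_apply_not_mem T ψ _ ht, map_zero, mul_zero]
  rw [h3, norm_mul, Complex.norm_natCast]
  by_cases he : (ψ ∘ (dsub T x).subtype) = (ψ ∘ dhom T x)
  · rw [← he, Core.classInner_irr_self hα', norm_one, mul_one]
  · rw [Core.classInner_irr_ne hα' hβ' he, norm_zero, mul_zero]
    exact Nat.cast_nonneg _

/-- the order of a double coset -/
theorem card_double [Finite G] (T : Subgroup G) (g : G) :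
    Nat.card {x : G // ∃ a ∈ T, ∃ b ∈ T, x = a * g * b} * Nat.card (dsub T g) ≤ Nat.card T * Nat.card T := by
  classical
  rw [← Nat.card_prod, ← Nat.card_prod]
  choose a ha b hb he using fun x : {x : G // ∃ a ∈ T, ∃ b ∈ T, x = a * g * b} => x.2
  refine Nat.card_le_card_of_injective (fun z : {x : G // ∃ a ∈ T, ∃ b ∈ T, x = a * g * b} × dsub T g =>
    ((⟨a z.1 * z.2.1, mul_mem (ha z.1) z.2.1.2⟩ : T),
      (⟨(g⁻¹ * z.2.1 * g)⁻¹ * b z.1, mul_mem (inv_mem ((mem_dsub T g z.2.1).1 z.2.2)) (hb z.1)⟩ : T))) ?_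
  rintro ⟨x, d⟩ ⟨y, e⟩ hxy
  have h1 : a x * (d : T) = a y * (e : T) := congrArg (fun z => ((z.1 : T) : G)) hxy
  have h2 : (g⁻¹ * ((d : T) : G) * g)⁻¹ * b x = (g⁻¹ * ((e : T) : G) * g)⁻¹ * b y := congrArg (fun z => ((z.2 : T) : G)) hxy
  have h3 : x = y := by
    apply Subtype.ext
    rw [he x, he y]
    calc a x * g * b x = (a x * ((d : T) : G)) * g * ((g⁻¹ * ((d : T) : G) * g)⁻¹ * b x) := by group
      _ = (a y * ((e : T) : G)) * g * ((g⁻¹ * ((e : T) : G) * g)⁻¹ * b y) := by rw [h1, h2]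
      _ = _ := by group
  subst h3
  have h4 : ((d : T) : G) = (e : T) := mul_left_cancel h1
  rw [Subtype.ext (Subtype.ext h4)]

/-- **The norm of an induced character.** -/
theorem norm_le [Fintype G] (T : Subgroup G) {ψ : T → ℂ} (hψ : IsIrrCharacter T ψ) {ι : Type*} [Finite ι] (g : ι → G)
    (hx : ∀ (_ : Fintype T) (x : G), twist T ψ ψ x = 0 ∨ ∃ j, ∃ a ∈ T, ∃ b ∈ T, x = a * g j * b)
    (hg : ∀ j, ∃ (L : Subgroup G) (hL : L ≤ T) (hL' : ∀ l ∈ L, (g j)⁻¹ * l * g j ∈ T),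
      IsIrrCharacter L (fun l => ψ ⟨l, hL l.2⟩) ∧ IsIrrCharacter L (fun l => ψ ⟨(g j)⁻¹ * l * g j, hL' l l.2⟩)) :
    ‖classInner (indFun T ψ) (indFun T ψ)‖ ≤ Nat.card ι := by
  classical
  have : Fintype T := Fintype.ofFinite T
  have : Fintype ι := Fintype.ofFinite ι
  have hcl := Core.isIrr_isClassFunction hψ
  have hb : ∀ j, ‖twist T ψ ψ (g j)‖ ≤ Nat.card (dsub T (g j)) := by
    intro j
    obtain ⟨L, hL, hL', h1, h2⟩ := hg j
    exact norm_twist_le T hψ (g j) L hL hL' h1 h2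
  have h1 : ∀ x : G, ‖twist T ψ ψ x‖ ≤ ∑ j : ι, if ∃ a ∈ T, ∃ b ∈ T, x = a * g j * b then
      (Nat.card (dsub T (g j)) : ℝ) else 0 := by
    intro x
    have hnn : ∀ j : ι, (0 : ℝ) ≤ if ∃ a ∈ T, ∃ b ∈ T, x = a * g j * b then
      (Nat.card (dsub T (g j)) : ℝ) else 0 := by
      intro j
      split_ifs
      · exact Nat.cast_nonneg _
      · exact le_rfl
    rcases hx inferInstance x with h2 | ⟨j, a, ha, b, hb', rfl⟩
    · rw [h2, norm_zero]
      exact Finset.sum_nonneg fun j _ => hnn j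
    · rw [twist_mul T hcl hcl ha hb']
      refine le_trans (hb j) (le_trans ?_ (Finset.single_le_sum (fun j _ => hnn j) (Finset.mem_univ j)))
      rw [if_pos ⟨a, ha, b, hb', rfl⟩]
  have h2 : ‖∑ x : G, twist T ψ ψ x‖ ≤ (Nat.card ι : ℝ) * ((Nat.card T : ℝ) * Nat.card T) := by
    refine le_trans (norm_sum_le _ _) (le_trans (Finset.sum_le_sum fun x _ => h1 x) ?_)
    rw [Finset.sum_comm]
    have h3 : ∀ j ∈ (Finset.univ : Finset ι), (∑ x : G, if ∃ a ∈ T, ∃ b ∈ T, x = a * g j * b then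
        (Nat.card (dsub T (g j)) : ℝ) else 0) ≤ (Nat.card T : ℝ) * Nat.card T := by
      intro j _
      rw [← Finset.sum_filter, Finset.sum_const, nsmul_eq_mul]
      have h4 := card_double T (g j)
      rw [Nat.card_eq_fintype_card (α := {x : G // ∃ a ∈ T, ∃ b ∈ T, x = a * g j * b}), Fintype.card_subtype] at h4
      exact_mod_cast h4
    refine le_trans (Finset.sum_le_sum h3) ?_
    rw [Finset.sum_const, Finset.card_univ, nsmul_eq_mul, Nat.card_eq_fintype_card (α := ι)]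
  have hT : (0 : ℝ) < Nat.card T := by exact_mod_cast Nat.card_pos
  rw [classInner_indFun_indFun, norm_mul, norm_mul, norm_inv, Complex.norm_natCast, ← mul_assoc, ← mul_inv,
    inv_mul_le_iff₀ (mul_pos hT hT)]
  linarith

/-- **The number of constituents.** -/
theorem card_le [Fintype G] {Φ : G → ℂ} (hΦ : IsCharacter G Φ) {k : ℕ} (h : ‖classInner Φ Φ‖ ≤ k)
    (E : Finset (IrrCharacter G)) (hE : ∀ χ ∈ E, classInner Φ χ ≠ 0) :
    E.card ≤ k ∧ (E.card = k → Φ = ∑ χ ∈ E, (χ : G → ℂ)) := by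
  classical
  have : Finite (IrrCharacter G) := Core.finite_irr
  let _ : Fintype (IrrCharacter G) := Fintype.ofFinite _
  obtain ⟨m, hm⟩ := Core.isCharacter_iff.1 hΦ
  have e1 : ∀ χ : IrrCharacter G, classInner Φ χ = m χ := fun χ => by
    rw [hm]; exact Core.classInner_sum_nsmul_irr m χ
  have e3 : classInner Φ Φ = ((∑ χ : IrrCharacter G, m χ ^ 2 : ℕ) : ℂ) := by
    conv_lhs => rw [show classInner Φ Φ = classInner Φ (∑ χ : IrrCharacter G, m χ • (χ : G → ℂ)) by rw [← hm]]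
    rw [Core.classInner_sum_right]
    push_cast
    refine Finset.sum_congr rfl fun χ _ => ?_
    have : (m χ • (χ : G → ℂ)) = (m χ : ℂ) • (χ : G → ℂ) := by rw [Nat.cast_smul_eq_nsmul]
    rw [this, Core.classInner_smul_right, Complex.conj_natCast, e1]
    ring
  rw [e3, Complex.norm_natCast] at h
  have h' : ∑ χ : IrrCharacter G, m χ ^ 2 ≤ k := by exact_mod_cast h
  have hpos : ∀ χ ∈ E, 1 ≤ m χ := by
    intro χ hχ
    have := hE χ hχ
    rw [e1] at this
    exact Nat.one_le_iff_ne_zero.2 fun h0 => this (by rw [h0, Nat.cast_zero])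
  have h1 : E.card ≤ ∑ χ ∈ E, m χ ^ 2 := by
    rw [Finset.card_eq_sum_ones]
    exact Finset.sum_le_sum fun χ hχ => Nat.one_le_pow _ _ (hpos χ hχ)
  have h2 : ∑ χ ∈ E, m χ ^ 2 ≤ ∑ χ : IrrCharacter G, m χ ^ 2 :=
    Finset.sum_le_sum_of_subset_of_nonneg (Finset.subset_univ _) fun _ _ _ => Nat.zero_le _
  refine ⟨le_trans h1 (le_trans h2 h'), fun hk => ?_⟩
  have h3 : ∑ χ ∈ E, m χ ^ 2 = E.card := le_antisymm (le_trans h2 (by rw [hk]; exact h')) h1
  have h4 : ∑ χ ∈ E, m χ ^ 2 = ∑ χ : IrrCharacter G, m χ ^ 2 := le_antisymm h2 (by rw [h3, hk]; exact h')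
  have h5 : ∀ χ, χ ∉ E → m χ = 0 := by
    intro χ hχ
    by_contra h0
    have h6 : ∑ χ ∈ insert χ E, m χ ^ 2 ≤ ∑ χ : IrrCharacter G, m χ ^ 2 :=
      Finset.sum_le_sum_of_subset_of_nonneg (Finset.subset_univ _) fun _ _ _ => Nat.zero_le _
    rw [Finset.sum_insert hχ, ← h4] at h6
    have : 0 < m χ ^ 2 := Nat.pow_pos (Nat.pos_of_ne_zero h0)
    omega
  have h6 : ∀ χ ∈ E, m χ = 1 := by
    intro χ hχ
    have h7 : ∀ ψ ∈ E, 1 ≤ m ψ ^ 2 := fun ψ hψ => Nat.one_le_pow _ _ (hpos ψ hψ)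
    have h8 : ∑ ψ ∈ E, 1 = ∑ ψ ∈ E, m ψ ^ 2 := by rw [h3, Finset.card_eq_sum_ones]
    have h9 := (Finset.sum_eq_sum_iff_of_le h7).1 h8 χ hχ
    have h10 := hpos χ hχ
    nlinarith
  rw [hm, ← Finset.sum_subset (Finset.subset_univ E) (fun χ _ hχ => by rw [h5 χ hχ, zero_smul])]
  exact Finset.sum_congr rfl fun χ hχ => by rw [h6 χ hχ, one_smul]

end Cfsg.Agent.H811.PSq
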