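import Cfsg.Agent.H811.PSq.Fpf
import Cfsg.Agent.H115.HC.RankTwo
import Cfsg.Agent.H246.Dl.KType

/-!
# Rank two (helper811, S4844)

* `card_perm_le` : at most two elements of `W` permute `{α_i}`;
* `dvd_of_family` : the family of characters in rank two.
-/

set_option autoImplicit false

open scoped ComplexConjugate
open Cfsg

namespace Cfsg.Agent.H811.PSq

open CoxeterSystem Cfsg.Agent.ChevalleyStructure.CoxeterGeom Cfsg.Agent.Tits.Roots Cfsg.Agent.Tits.Core
  Cfsg.Agent.Tits.Exchange Cfsg.Agent.Nodes.Reps Cfsg.Agent.Nodes.BNOf Cfsg.Agent.Nodes.StabComb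
  Cfsg.Agent.Nodes.Bruhat Cfsg.Agent.Nodes.OppDec Cfsg.Agent.Nodes.LeviDec Cfsg.Agent.H53.HC Cfsg.Agent.H115.HC

variable {W Y : Type*} [Group W] [Group Y] {M : CoxeterMatrix (Fin 2)}
  {cs : CoxeterSystem M W} {A : Fin 2 → Fin 2 → ℤ} {h : IsCartan M A} {p : ℕ} {T : Subgroup Y} {n : Fin 2 → Y}
  {X : (Fin 2 → ℤ) → Subgroup Y}

theorem rep_eq_of' [Finite W] {w : W} (hw : w ∉ WJ cs ({1} : Set (Fin 2))) (h0 : rep cs h w (sr 1) = sr 1) :
    rep cs h w (sr 0) = fun k => if k = 1 then A 1 0 else -1 := by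
  have hJ : ∀ i : Fin 2, i ∈ ({1} : Set (Fin 2)) ↔ i ≠ 0 := by
    intro i
    fin_cases i <;> simp
  have hp : Perm cs h ({1} : Set (Fin 2)) w := by
    refine ⟨fun i hi => ⟨1, rfl, ?_⟩, fun i hi => ⟨1, rfl, ?_⟩⟩
    · rw [Set.mem_singleton_iff.1 hi]
      nth_rw 1 [← h0]
      rw [rep_inv_apply]
    · rw [Set.mem_singleton_iff.1 hi, h0]
  have h1 := apply_eq_neg hJ hp hw (sr 0)
  rw [sr_self] at h1
  have h2 := pairing_rep h0 (sr 0)
  rw [sr, pairing_single, mul_one] at h2
  unfold pairing at h2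
  rw [Fin.sum_univ_two, h.diag, show (rep cs h w (Pi.single 0 1) : Fin 2 → ℤ) 0 = -1 from h1] at h2
  funext k
  fin_cases k
  · exact h1
  · change rep cs h w (Pi.single 0 1) 1 = A 1 0
    linarith

/-- the element outside `W_{i}` fixing `α_i` is unique -/
theorem eq_of_fix [Finite W] {i : Fin 2} {v w : W} (hv : v ∉ WJ cs ({i} : Set (Fin 2))) (hw : w ∉ WJ cs ({i} : Set (Fin 2)))
    (h0 : rep cs h v (sr i) = sr i) (h1 : rep cs h w (sr i) = sr i) : v = w := by
  refine eq_of_rep (cs := cs) (h := h) fun j => ?_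
  revert hv hw h0 h1
  fin_cases i <;> fin_cases j <;> intro hv hw h0 h1
  · exact h0.trans h1.symm
  · exact (rep_eq_of hv h0).trans (rep_eq_of hw h1).symm
  · exact (rep_eq_of' hv h0).trans (rep_eq_of' hw h1).symm
  · exact h0.trans h1.symm

theorem eq_one_of_mem [Finite W] {i : Fin 2} {w : W} (hw : w ∈ WJ cs ({i} : Set (Fin 2)))
    (h1 : rep cs h w (sr i) = sr i) : w = 1 := by
  have h2 : WJ cs ({i} : Set (Fin 2)) = Subgroup.zpowers (cs.simple i) := by
    unfold WJ
    rw [Set.image_singleton, ← Subgroup.zpowers_eq_closure]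
  rw [h2] at hw
  obtain ⟨k, rfl⟩ := Subgroup.mem_zpowers_iff.1 hw
  have h3 : cs.simple i * cs.simple i = 1 := cs.simple_mul_simple_self i
  rcases Int.even_or_odd k with ⟨m, rfl⟩ | ⟨m, rfl⟩
  · rw [← two_mul, zpow_mul, zpow_two, h3, one_zpow]
  · exfalso
    have h4 : cs.simple i ^ (2 * m + 1) = cs.simple i := by
      rw [zpow_add, zpow_mul, zpow_two, h3, one_zpow, one_mul, zpow_one]
    change rep cs h (cs.simple i ^ (2 * m + 1)) (sr i) = sr i at h1
    rw [h4, rep_simple_sr] at h1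
    have h5 := congrFun h1 i
    rw [Pi.neg_apply, sr_self] at h5
    omega

/-- **At most two elements of `W` permute `{α_i}`.** -/
theorem card_perm_le [Finite W] (i : Fin 2) : Nat.card {w : W // Perm cs h {i} w} ≤ 2 := by
  classical
  have hfix : ∀ w : {w : W // Perm cs h {i} w}, rep cs h w.1 (sr i) = sr i := by
    intro w
    obtain ⟨k, hk, e⟩ := w.2.2 i (Set.mem_singleton i)
    rw [e, Set.mem_singleton_iff.1 hk]
  have h1 : Nat.card {w : W // Perm cs h {i} w} ≤ Nat.card Bool := by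
    refine Nat.card_le_card_of_injective (fun w => decide (w.1 ∈ WJ cs ({i} : Set (Fin 2)))) ?_
    intro v w hvw
    have hvw' : decide (v.1 ∈ WJ cs ({i} : Set (Fin 2))) = decide (w.1 ∈ WJ cs ({i} : Set (Fin 2))) := hvw
    rw [decide_eq_decide] at hvw'
    apply Subtype.ext
    by_cases hv : v.1 ∈ WJ cs ({i} : Set (Fin 2))
    · rw [eq_one_of_mem hv (hfix v), eq_one_of_mem (hvw'.1 hv) (hfix w)]
    · exact eq_of_fix hv (fun hw => hv (hvw'.2 hw)) (hfix v) (hfix w)
  rwa [Nat.card_eq_fintype_card (α := Bool), Fintype.card_bool] at h1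

variable (R : RGD cs h p T n X)

include R

/-- **A family of characters in rank two.** `E` a family of irreducible characters which agree on the two maximal
parabolic subgroups, with more members than `W` (or as many, not dividing the index of `B`); `E₀ ≤ T` a subgroup whose
elements `≠ 1` have fixed points on at most one pair of opposite root groups. Then `|E₀|` divides their degrees. -/
theorem dvd_of_family [Finite W] [Fintype Y] (hG : GG cs h T X = ⊤) (hTc : ∀ a ∈ T, ∀ b ∈ T, a * b = b * a)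
    (E : Finset (IrrCharacter Y))
    (hE : ∀ i, ∀ χ ∈ E, ∀ χ' ∈ E, ∀ x ∈ PJ cs h T X {i}, (χ : Y → ℂ) x = (χ' : Y → ℂ) x)
    (h2 : 2 < E.card) (hcard : Nat.card W < E.card ∨ (Nat.card W = E.card ∧ ¬ E.card ∣ (PJ cs h T X ∅).index))
    {E₀ : Subgroup Y} (hE₀ : E₀ ≤ T)
    (hone : ∀ x ∈ E₀, x ≠ 1 → ∀ z z', IsRoot cs h z → IsRoot cs h z' → NF X x z → NF X x z' → z = z' ∨ z = -z') :
    H33.IM (Nat.card E₀) Y := by
  classical
  have hne : E.Nonempty := Finset.card_pos.1 (by omega)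
  obtain ⟨χ, hχ⟩ := hne
  have hcases : ∀ J : Set (Fin 2), J ≠ Set.univ → J = ∅ ∨ J = {0} ∨ J = {1} := by
    intro J hJ
    by_cases h0 : (0 : Fin 2) ∈ J
    · by_cases h1 : (1 : Fin 2) ∈ J
      · exact absurd (Set.eq_univ_of_forall fun k => by fin_cases k <;> assumption) hJ
      · right; left
        ext k
        fin_cases k
        · simpa using h0
        · simpa using h1
    · by_cases h1 : (1 : Fin 2) ∈ J
      · right; right
        ext k
        fin_cases k
        · simpa using h0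
        · simpa using h1
      · left
        ext k
        fin_cases k
        · simpa using h0
        · simpa using h1
  refine ⟨χ, dvd_degree R χ.2 ?_ hE₀ hone⟩
  intro i _
  refine sum_VJ_eq_zero R hG hTc E ?_ ?_ {i} ?_ χ hχ
  · intro J hJ χ₁ h₁ χ₂ h₂ x hx
    rcases hcases J hJ with rfl | rfl | rfl
    · exact hE 0 χ₁ h₁ χ₂ h₂ x (Cfsg.Agent.H246.Dl.PJ_mono (Set.empty_subset _) hx)
    · exact hE 0 χ₁ h₁ χ₂ h₂ x hx
    · exact hE 1 χ₁ h₁ χ₂ h₂ x hx
  · intro J hJ
    rcases hcases J hJ with rfl | rfl | rfl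
    · rcases hcard with h3 | ⟨h3, h4⟩
      · left
        exact lt_of_le_of_lt (Nat.card_le_card_of_injective _ Subtype.val_injective) h3
      · exact Or.inr ⟨rfl, h3, h4⟩
    · exact Or.inl (lt_of_le_of_lt (card_perm_le 0) h2)
    · exact Or.inl (lt_of_le_of_lt (card_perm_le 1) h2)
  · intro h1
    have h3 : ∀ k : Fin 2, k ∈ ({i} : Set (Fin 2)) := fun k => by rw [h1]; trivial
    have h4 := h3 0
    have h5 := h3 1
    rw [Set.mem_singleton_iff] at h4 h5
    exact absurd (h4.trans h5.symm) (by decide)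

end Cfsg.Agent.H811.PSq
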